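import Groth.Agent.L01.Regular
import Groth.Agent.L04.RegularPd
import Mathlib.RingTheory.Regular.RegularSequence

/-!
The socle of a two-generated primary ideal in a two-dimensional regular local ring.
-/

set_option autoImplicit false
set_option linter.unusedSectionVars false
set_option linter.style.haveILetI false
universe u

open IsLocalRing RingTheory.Sequence

namespace Groth.L03.AdjLin

variable {R : Type u} [CommRing R] [IsDomain R] [IsLocalRing R]

/-- Two parameters generating the maximal ideal, the second regular modulo the first. -/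
structure RegPair (u v : R) : Prop where
  gen : maximalIdeal R = Ideal.span {u, v}
  ne : u ≠ 0
  reg : ∀ x y : R, v * x = u * y → ∃ c, x = u * c ∧ y = v * c

variable {u v : R} (h : RegPair u v)

include h

theorem RegPair.mem_u : u ∈ maximalIdeal R := by rw [h.gen]; exact Ideal.subset_span (Or.inl rfl)

theorem RegPair.mem_v : v ∈ maximalIdeal R := by rw [h.gen]; exact Ideal.subset_span (Or.inr rfl)

theorem RegPair.mul_mem {I : Ideal R} {x : R} (hu : u * x ∈ I) (hv : v * x ∈ I) {z : R}
    (hz : z ∈ maximalIdeal R) : z * x ∈ I := by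
  rw [h.gen, Ideal.mem_span_pair] at hz
  obtain ⟨p, q, rfl⟩ := hz
  rw [add_mul, mul_assoc, mul_assoc]
  exact add_mem (I.mul_mem_left p hu) (I.mul_mem_left q hv)

/-- An element outside an ideal containing a power of the maximal ideal has a multiple in the socle. -/
theorem RegPair.exists_socle {I : Ideal R} {N : ℕ} {x : R} (hx : x ∉ I)
    (hN : ∀ z ∈ maximalIdeal R ^ N, z * x ∈ I) :
    ∃ w, w * x ∉ I ∧ u * (w * x) ∈ I ∧ v * (w * x) ∈ I := by
  induction N generalizing x with
  | zero => exact absurd (one_mul x ▸ hN 1 (by simp)) hx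
  | succ N ih =>
    by_cases h1 : ∀ z ∈ maximalIdeal R ^ N, z * x ∈ I
    · exact ih hx h1
    push Not at h1
    obtain ⟨w, hw, hwx⟩ := h1
    have key : ∀ z ∈ maximalIdeal R, z * (w * x) ∈ I := fun z hz => by
      rw [← mul_assoc]
      exact hN _ (by rw [pow_succ']; exact Ideal.mul_mem_mul hz hw)
    exact ⟨w, hwx, key u h.mem_u, key v h.mem_v⟩

theorem RegPair.mem_span_of_mul {a : R} (ha : a ≠ 0) {y : R} (hu : u * y ∈ Ideal.span {a})
    (hv : v * y ∈ Ideal.span {a}) : y ∈ Ideal.span {a} := by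
  obtain ⟨c, hc⟩ := Ideal.mem_span_singleton'.1 hu
  obtain ⟨d, hd⟩ := Ideal.mem_span_singleton'.1 hv
  obtain ⟨e, he, -⟩ := h.reg c d (mul_left_cancel₀ ha (by linear_combination v * hc - u * hd))
  exact Ideal.mem_span_singleton'.2 ⟨e, mul_left_cancel₀ h.ne (by rw [← hc, he]; ring)⟩

theorem RegPair.reg_mod {a b : R} {N : ℕ} (hI : maximalIdeal R ^ N ≤ Ideal.span {a, b}) (ha : a ≠ 0) {x : R}
    (hx : b * x ∈ Ideal.span {a}) : x ∈ Ideal.span {a} := by
  by_contra hc
  obtain ⟨w, hw, h1, h2⟩ := h.exists_socle (N := N) hc fun z hz => by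
    obtain ⟨p, q, rfl⟩ := Ideal.mem_span_pair.1 (hI hz)
    rw [add_mul, mul_assoc, mul_assoc, mul_comm a]
    exact add_mem (Ideal.mul_mem_left _ _ (Ideal.mul_mem_left _ _ (Ideal.mem_span_singleton_self a)))
      (Ideal.mul_mem_left _ _ hx)
  exact hw (h.mem_span_of_mul ha h1 h2)

theorem RegPair.left_ne_zero {a b : R} {N : ℕ} (hI : maximalIdeal R ^ N ≤ Ideal.span {a, b})
    (hne : Ideal.span ({a, b} : Set R) ≠ ⊤) : a ≠ 0 := by
  rintro rfl
  have hb : b ≠ 0 := by
    rintro rfl
    refine h.ne (pow_eq_zero_iff'.1 (?_ : u ^ N = 0)).1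
    simpa using hI (Ideal.pow_mem_pow h.mem_u N)
  have h1 := h.reg_mod (a := b) (b := 0) (hI.trans_eq (by rw [Set.pair_comm])) hb (x := 1) (by simp)
  have hsub : Ideal.span {b} ≤ Ideal.span ({0, b} : Set R) :=
    Ideal.span_mono (Set.singleton_subset_iff.2 (Set.mem_insert_of_mem _ rfl))
  exact hne ((Ideal.eq_top_iff_one _).2 (hsub h1))

/-- The socle modulo a two-generated primary ideal is at most one-dimensional. -/
theorem RegPair.socle_le {a b : R} {N : ℕ} (hI : maximalIdeal R ^ N ≤ Ideal.span {a, b})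
    (hne : Ideal.span ({a, b} : Set R) ≠ ⊤) {s : R} (hs : s ∉ Ideal.span {a, b})
    (hsu : u * s ∈ Ideal.span {a, b}) (hsv : v * s ∈ Ideal.span {a, b}) {t : R}
    (htu : u * t ∈ Ideal.span {a, b}) (htv : v * t ∈ Ideal.span {a, b}) :
    t ∈ Ideal.span {a, b} ⊔ Ideal.span {s} := by
  have ha : a ≠ 0 := h.left_ne_zero hI hne
  -- the invariant of an element of the socle
  have rep : ∀ r, u * r ∈ Ideal.span {a, b} → v * r ∈ Ideal.span {a, b} →
      ∃ p q p' q' l : R, u * r = p * a + q * b ∧ v * r = p' * a + q' * b ∧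
        v * p - u * p' = l * b ∧ v * q - u * q' = -(l * a) := by
    intro r hu hv
    obtain ⟨p, q, hpq⟩ := Ideal.mem_span_pair.1 hu
    obtain ⟨p', q', hpq'⟩ := Ideal.mem_span_pair.1 hv
    have e : (v * p - u * p') * a + (v * q - u * q') * b = 0 := by
      linear_combination v * hpq - u * hpq'
    obtain ⟨m, hm⟩ := Ideal.mem_span_singleton'.1 (h.reg_mod hI ha (x := v * q - u * q')
      (Ideal.mem_span_singleton'.2 ⟨-(v * p - u * p'), by linear_combination -e⟩))
    exact ⟨p, q, p', q', -m, hpq.symm, hpq'.symm, mul_right_cancel₀ ha (by linear_combination e + b * hm),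
      by linear_combination -hm⟩
  have mem : ∀ r p q p' q' l, u * r = p * a + q * b → v * r = p' * a + q' * b →
      v * p - u * p' = l * b → v * q - u * q' = -(l * a) → l ∈ maximalIdeal R → r ∈ Ideal.span {a, b} := by
    intro r p q p' q' l h1 _ h3 h4 hl
    rw [h.gen, Ideal.mem_span_pair] at hl
    obtain ⟨α, β, rfl⟩ := hl
    obtain ⟨c, hc, -⟩ := h.reg (p - β * b) (p' + α * b) (by linear_combination h3)
    obtain ⟨e, he, -⟩ := h.reg (q + β * a) (q' - α * a) (by linear_combination h4)
    exact Ideal.mem_span_pair.2 ⟨c, e, mul_left_cancel₀ h.ne (by linear_combination -h1 - a * hc - b * he)⟩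
  obtain ⟨p, q, p', q', l, s1, s2, s3, s4⟩ := rep s hsu hsv
  obtain ⟨P, Q, P', Q', L, t1, t2, t3, t4⟩ := rep t htu htv
  obtain ⟨l', hl'⟩ : IsUnit l := by
    by_contra hl
    exact hs (mem s p q p' q' l s1 s2 s3 s4 hl)
  let c := L * ↑l'⁻¹
  have hcl : c * l = L := by rw [← hl', Units.inv_mul_cancel_right]
  have hmem : t - c * s ∈ Ideal.span {a, b} :=
    mem (t - c * s) (P - c * p) (Q - c * q) (P' - c * p') (Q' - c * q') 0 (by linear_combination t1 - c * s1)
      (by linear_combination t2 - c * s2) (by linear_combination t3 - c * s3 - b * hcl)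
      (by linear_combination t4 - c * s4 + a * hcl) (zero_mem _)
  exact Submodule.mem_sup.2 ⟨_, hmem, c * s, Ideal.mul_mem_left _ c (Ideal.mem_span_singleton_self s), by ring⟩

omit h

/-- A regular local ring of dimension two has such parameters. -/
theorem exists_regPair (R : Type u) [CommRing R] [IsRegularLocalRing R] (hd : ringKrullDim R = (2 : ℕ)) :
    ∃ (_ : IsDomain R) (u v : R), RegPair u v := by
  haveI := Groth.L01.isDomain_of_regular (R := R)
  obtain ⟨rs, hlen, hrs, hgen⟩ := Groth.L04.exists_regular_generators hd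
  obtain ⟨u, v, rfl⟩ := List.length_eq_two.1 hlen
  have hw := hrs.1
  rw [isWeaklyRegular_cons_iff, isWeaklyRegular_cons_iff] at hw
  obtain ⟨hu, hv, -⟩ := hw
  have hu0 : u ≠ 0 := fun h0 => one_ne_zero (hu (by simp [h0] : u • (1 : R) = u • (0 : R)))
  refine ⟨inferInstance, u, v, ⟨?_, hu0, fun x y hxy => ?_⟩⟩
  · rw [← hgen, Ideal.ofList_cons, Ideal.ofList_cons, Ideal.ofList_nil, sup_bot_eq, ← Ideal.span_union]
    rfl
  · have hx : x ∈ Ideal.span {u} := by
      have hh : (Submodule.Quotient.mk x : QuotSMulTop u R) = 0 := hv (by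
        show v • (Submodule.Quotient.mk x : QuotSMulTop u R) = v • (0 : QuotSMulTop u R)
        rw [smul_zero]
        show (Submodule.Quotient.mk (v • x) : QuotSMulTop u R) = 0
        rw [Submodule.Quotient.mk_eq_zero, Submodule.mem_smul_pointwise_iff_exists]
        exact ⟨y, trivial, by rw [smul_eq_mul, smul_eq_mul, hxy]⟩)
      rw [Submodule.Quotient.mk_eq_zero, Submodule.mem_smul_pointwise_iff_exists] at hh
      obtain ⟨z, -, rfl⟩ := hh
      exact Ideal.mul_mem_right _ _ (Ideal.mem_span_singleton_self u)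
    obtain ⟨c, rfl⟩ := Ideal.mem_span_singleton'.1 hx
    exact ⟨c, mul_comm _ _, mul_left_cancel₀ hu0 (by linear_combination -hxy)⟩

end Groth.L03.AdjLin
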