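import Groth.Agent.L03.AdjLin.Ext
import Groth.Agent.L03.AdjLin.Socle
import Groth.Agent.L13.ModPair.Colon
import Groth.Agent.L05.PtSeq.PointIdeal
import Groth.Agent.L03.BlowPt.Pair
import Mathlib.GroupTheory.CosetCover

/-!
The ideals covering a finite local complete intersection on a surface, and the criterion for a
locally free extension.
-/

set_option autoImplicit false
set_option backward.isDefEq.respectTransparency false
set_option linter.style.haveILetI false
set_option linter.unusedSectionVars false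
universe u

open CategoryTheory CategoryTheory.Limits CategoryTheory.Abelian AlgebraicGeometry TopologicalSpace Opposite
open IsLocalRing (maximalIdeal)

noncomputable section

namespace Groth.L03.AdjLin

open Groth.L21.CurveAdj (stI stI_eq_map)
open Groth.L03.BlowPt (ptI)

variable {X : Scheme.{u}} [AlgebraicGeometry.IsNoetherian X]

theorem locFG (D : X.IdealSheafData) : Groth.L13.MP.LocFG D := Groth.L13.MP.LocFG.of_fg fun U =>
  haveI : IsNoetherianRing Γ(X, U.1) := IsLocallyNoetherian.component_noetherian U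
  IsNoetherian.noetherian _

theorem stI_colon (I D : X.IdealSheafData) (x : X) :
    stI (Groth.L13.MP.colon I (locFG D)) x =
      Submodule.colon (stI I x) ((stI D x : Ideal (X.presheaf.stalk x)) : Set (X.presheaf.stalk x)) := by
  obtain ⟨V, hV, hxV, -⟩ := exists_isAffineOpen_mem_and_subset (x := x) (U := ⊤) trivial
  letI := X.presheaf.algebra_section_stalk (⟨x, hxV⟩ : V)
  haveI := hV.isLocalization_stalk ⟨x, hxV⟩
  rw [stI_eq_map _ hV hxV, stI_eq_map I hV hxV, stI_eq_map D hV hxV]
  exact Groth.L22.CartierDecomp.map_colon (hV.primeIdealOf ⟨x, hxV⟩).asIdeal.primeCompl _ _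
    ((locFG D).fg ⟨V, hV⟩)

theorem eq_of_stI {I J : X.IdealSheafData} (h : ∀ x : X, stI I x = stI J x) : I = J :=
  le_antisymm (le_of_stI fun x => (h x).le) (le_of_stI fun x => (h x).ge)

/-- The colon of the ideal by a closed point. -/
def cover (IP : X.IdealSheafData) {z : X} (hz : IsClosed ({z} : Set ↥X)) : X.IdealSheafData :=
  Groth.L13.MP.colon IP (locFG (ptI hz))

variable (IP : X.IdealSheafData) {z : X} (hz : IsClosed ({z} : Set ↥X))

theorem le_cover : IP ≤ cover IP hz := fun _ _ ha =>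
  Submodule.mem_colon.2 fun _ _ => Ideal.mul_mem_right _ _ ha

theorem stI_cover_of_ne {x : X} (hx : x ≠ z) : stI (cover IP hz) x = stI IP x := by
  rw [cover, stI_colon, stI_eq_top_of_notMem (ptI hz) (fun hm => hx (by
    rw [← SetLike.mem_coe, Scheme.IdealSheafData.coe_support_vanishingIdeal] at hm
    exact hm))]
  refine le_antisymm (fun r hr => ?_) fun r hr => Submodule.mem_colon.2 fun d _ => Ideal.mul_mem_right d _ hr
  have := Submodule.mem_colon.1 hr 1 Submodule.mem_top
  simpa using this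

theorem mem_stI_cover_iff (r : X.presheaf.stalk z) :
    r ∈ stI (cover IP hz) z ↔ ∀ d ∈ maximalIdeal (X.presheaf.stalk z), d * r ∈ stI IP z := by
  rw [cover, stI_colon, Groth.L21.CurveAdj.stI_vanishingIdeal_finite hz (Set.finite_singleton z)
    (fun x hx => by rw [Set.mem_singleton_iff.1 hx]; exact hz) rfl, Submodule.mem_colon]
  exact forall₂_congr fun d _ => by rw [smul_eq_mul, mul_comm]

variable (s : Surf X) (hfin : (IP.support : Set ↥X).Finite)
  (hlci : ∀ x : X, ∃ V : X.affineOpens, x ∈ (V : X.Opens) ∧ ∃ a b : Γ(X, V), IP.ideal V = Ideal.span {a, b})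

include hfin s in
theorem exists_pow_le {x : X} (hx : x ∈ IP.support) :
    ∃ N : ℕ, maximalIdeal (X.presheaf.stalk x) ^ N ≤ stI IP x := by
  have hxc := s.fin _ hfin IP.support.isClosed x hx
  obtain ⟨N, hN⟩ := Groth.L05.PtSeq.exists_pow_le_stI IP hxc fun w hw hwx =>
    (hwx.mem_closed (s.fin _ hfin IP.support.isClosed w hw) rfl).symm
  obtain ⟨V, hV, hxV, -⟩ := exists_isAffineOpen_mem_and_subset (x := x) (U := ⊤) trivial
  rw [Groth.L05.PtSeq.stI_eq IP ⟨V, hV⟩ hxV] at hN
  exact ⟨N, hN.trans_eq (stI_eq_map IP hV hxV).symm⟩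

theorem stI_ne_top {x : X} (hx : x ∈ IP.support) : stI IP x ≠ ⊤ := fun htop => by
  refine Groth.L22.CurveAmple.mem_support_quotMod IP hx (subsingleton_of_forall_eq 0 fun v => ?_)
  obtain ⟨r, rfl⟩ := Groth.L21.CurveAdj.quotMap_surjective IP x v
  rw [← LinearMap.mem_ker, Groth.L21.CurveAdj.ker_quotMap, htop]
  exact Submodule.mem_top

include hlci in
theorem exists_gens (x : X) : ∃ a b : X.presheaf.stalk x, stI IP x = Ideal.span {a, b} := by
  obtain ⟨V, hxV, a, b, hab⟩ := hlci x
  exact ⟨X.presheaf.germ V.1 x hxV a, X.presheaf.germ V.1 x hxV b, by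
    rw [stI_eq_map IP V.2 hxV, hab, Ideal.map_span, Set.image_pair]⟩

include hfin s in
theorem lt_cover (hzP : z ∈ IP.support) : IP < cover IP hz := by
  refine lt_of_le_of_ne (le_cover IP hz) fun heq => ?_
  haveI := s.reg z
  obtain ⟨hdom, u, v, huv⟩ := exists_regPair (X.presheaf.stalk z) (s.dimc z hz)
  obtain ⟨N, hN⟩ := exists_pow_le IP s hfin hzP
  obtain ⟨w, hw, hu, hv⟩ := huv.exists_socle (x := 1) (N := N)
    (fun h => stI_ne_top IP hzP ((Ideal.eq_top_iff_one _).2 h)) fun r hr => by rw [mul_one]; exact hN hr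
  refine hw ?_
  have := (mem_stI_cover_iff IP hz (w * 1)).2 fun d hd => huv.mul_mem hu hv hd
  rwa [← heq] at this

include hfin hlci s in
/-- Every strictly larger ideal contains one of the colons. -/
theorem exists_cover_le {I' : X.IdealSheafData} (hlt : IP < I') :
    ∃ (z : X) (hz : IsClosed ({z} : Set ↥X)), z ∈ IP.support ∧ cover IP hz ≤ I' := by
  obtain ⟨z, r, hr, hrn⟩ : ∃ (z : X) (r : X.presheaf.stalk z), r ∈ stI I' z ∧ r ∉ stI IP z := by
    by_contra hc
    push Not at hc
    exact hlt.not_ge (le_of_stI hc)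
  have hzP : z ∈ IP.support := by
    by_contra h
    rw [stI_eq_top_of_notMem IP h] at hrn
    exact hrn trivial
  have hz := s.fin _ hfin IP.support.isClosed z hzP
  refine ⟨z, hz, hzP, le_of_stI fun x => ?_⟩
  by_cases hx : x = z
  · subst hx
    intro t ht
    haveI := s.reg x
    obtain ⟨hdom, u, v, huv⟩ := exists_regPair (X.presheaf.stalk x) (s.dimc x hz)
    obtain ⟨N, hN⟩ := exists_pow_le IP s hfin hzP
    obtain ⟨w, hw, hu, hv⟩ := huv.exists_socle (N := N) hrn fun q hq => Ideal.mul_mem_right r _ (hN hq)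
    obtain ⟨a, b, hab⟩ := exists_gens IP hlci x
    have ht' := (mem_stI_cover_iff IP hz t).1 ht
    have hne := stI_ne_top IP hzP
    rw [hab] at hN hne hw hu hv ht'
    have hmem := huv.socle_le hN hne hw hu hv (ht' u huv.mem_u) (ht' v huv.mem_v)
    refine (sup_le ?_ ?_ : Ideal.span {a, b} ⊔ Ideal.span {w * r} ≤ stI I' x) hmem
    · rw [← hab]; exact stI_mono hlt.le x
    · exact (Ideal.span_singleton_le_iff_mem _).2 (Ideal.mul_mem_left _ w hr)
  · rw [stI_cover_of_ne IP hz hx]
    exact stI_mono hlt.le x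

include hfin hlci s in
/-- The colons are exactly the covers. -/
theorem covBy_cover (hzP : z ∈ IP.support) : IP ⋖ cover IP hz := by
  refine ⟨lt_cover IP hz s hfin hzP, fun c h1 h2 => h2.not_ge ?_⟩
  obtain ⟨z', hz', hz'P, hle⟩ := exists_cover_le IP s hfin hlci h1
  by_cases h : z' = z
  · subst h
    exact hle
  · exfalso
    refine (lt_cover IP hz' s hfin hz'P).ne ?_
    refine le_antisymm (le_cover IP hz') (le_of_stI fun x => ?_)
    by_cases hx : x = z'
    · subst hx
      exact ((stI_mono hle _).trans (stI_mono h2.le _)).trans_eq (stI_cover_of_ne IP hz h)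
    · exact (stI_cover_of_ne IP hz' hx).le

variable [HasExt.{u} X.Modules] {k : Type u} [Field k] [Infinite k] [X.Over (Spec (CommRingCat.of k))]
  [IsProper (X ↘ Spec (CommRingCat.of k))] [IsIntegral X] {N : ℕ}
  (ι : X ⟶ CohB1.ProjSpace N k) [IsClosedImmersion ι]

include s hfin hlci ι in
/-- There is a locally free extension exactly when no cover induces all classes. -/
theorem exists_bundle_iff {M : X.Modules} (hM : PicF.IsInvertible M) :
    (∃ (F : X.Modules) (a : M ⟶ F) (b : F ⟶ ClSub.idealMod IP) (w : a ≫ b = 0),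
        (ShortComplex.mk a b w).ShortExact ∧ FlatMod.IsFinLocFree F) ↔
      ∀ I' : X.IdealSheafData, IP ⋖ I' → ∀ φ : ClSub.idealMod IP ⟶ ClSub.idealMod I',
        φ ≫ ClSub.idealModι I' = ClSub.idealModι IP →
          ¬ Function.Surjective ((Ext.mk₀ φ).precomp M (zero_add 1)) := by
  classical
  haveI := Groth.L00.Tensor.grothendieckAbelian_modules X
  constructor
  · rintro ⟨F, a, b, w, hex, hF⟩ I' hcov φ hφ hsurj
    obtain ⟨e', he'⟩ := hsurj hex.extClass
    obtain ⟨F', a', b', w', hex', hcl⟩ := Groth.L12.DefoSh.exists_extension e'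
    subst hcl
    obtain ⟨g, hag, hgb⟩ := exists_hom_of_extClass hex hex' φ he'
    exact not_isFinLocFree_of_larger s hM hfin hex hex' φ g hcov.lt.ne hφ hag hgb hF
  · intro hb
    have hc : ∀ z : IP.support, IsClosed ({(z : X)} : Set ↥X) := fun z =>
      s.fin _ hfin IP.support.isClosed z z.2
    haveI : Finite ↥(IP.support : Set ↥X) := hfin.to_subtype
    choose ψ hψ using fun z : IP.support => exists_fac (le_cover IP (hc z))
    let W : IP.support → Submodule k (Ext (ClSub.idealMod IP) M 1) := fun z =>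
      LinearMap.range (Ext.precompOfLinear (Ext.mk₀ (ψ z)) k M (zero_add 1))
    obtain ⟨e, he⟩ : ∃ e, ∀ z, e ∉ W z := by
      by_contra hne
      push Not at hne
      obtain ⟨z, hz⟩ := Subspace.exists_eq_top_of_iUnion_eq_univ (p := W)
        (Set.eq_univ_of_forall fun e => Set.mem_iUnion.2 (hne e))
      exact hb _ (covBy_cover IP (hc z) s hfin hlci z.2) (ψ z) (hψ z) (LinearMap.range_eq_top.1 hz)
    obtain ⟨F, a, b, w, hex, hcle⟩ := Groth.L12.DefoSh.exists_extension e
    refine ⟨F, a, b, w, hex, by_contra fun hnot => ?_⟩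
    obtain ⟨I', F', a', b', w', φ, g, hlt, hex', hφ, hag, hgb⟩ := exists_larger s ι hM hfin hex hnot
    obtain ⟨z, hz, hzP, hle⟩ := exists_cover_le IP s hfin hlci hlt
    obtain ⟨χ, hχ⟩ := exists_fac hle
    haveI : Mono (ClSub.idealModι I') := inferInstanceAs (Mono (kernel.ι _))
    have hfac : ψ ⟨z, hzP⟩ ≫ χ = φ :=
      (cancel_mono (ClSub.idealModι I')).1 (by rw [Category.assoc, hχ, hψ, hφ])
    refine he ⟨z, hzP⟩ ⟨(Ext.mk₀ χ).comp hex'.extClass (zero_add 1), ?_⟩
    show (Ext.mk₀ (ψ ⟨z, hzP⟩)).comp ((Ext.mk₀ χ).comp hex'.extClass (zero_add 1)) (zero_add 1) = e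
    rw [← Ext.comp_assoc_of_second_deg_zero, Ext.mk₀_comp_mk₀, hfac, extClass_of_hom hex hex' φ g hag hgb, hcle]

end Groth.L03.AdjLin
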