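import Groth.Agent.L03.AdjLin.Ext
import Groth.Agent.L21.Mero.Zero
import Groth.Agent.L21.RR.Twist

/-!
Sections whose zero scheme contains a given subscheme.
-/

set_option autoImplicit false
set_option backward.isDefEq.respectTransparency false
set_option linter.style.haveILetI false
universe u

open CategoryTheory CategoryTheory.Limits AlgebraicGeometry TopologicalSpace Opposite

noncomputable section

namespace Groth.L03.AdjLin

open Groth.L21.RR (st st_germ one oneSec twι twπ twι_twπ shortExact_tw tensorStalkEquiv bijective_germ_frame)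
open Groth.L21.CurveAdj (stI stI_eq_map quotMap quotMap_surjective ker_quotMap)
open Groth.L18.Frame (rs rs_self IsFrame)
open Groth.L18.GenLoc (secOf)

variable {X : Scheme.{u}} {N : X.Modules}

/-- The zero scheme contains the subscheme of `I` exactly when the section lifts to the twisted ideal. -/
theorem zeroScheme_le_iff (hN : PicF.IsInvertible N) (σ : Coh.structureModule X ⟶ N) (I : X.IdealSheafData) :
    PicF2.zeroScheme N σ ≤ I ↔ ∃ τ : Coh.structureModule X ⟶ CohB1.tensorMod N (ClSub.idealMod I),
      τ ≫ twι N I = σ := by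
  have hS := shortExact_tw I hN
  haveI := hS.mono_f
  haveI := hS.epi_g
  -- at one point
  have key : ∀ x : X, stI (PicF2.zeroScheme N σ) x ≤ stI I x ↔ st (twπ N I) x (st σ x (one X x)) = 0 := by
    intro x
    obtain ⟨W, d, hxW, hd⟩ := Groth.L18.Frame.exists_frame hN x
    obtain ⟨V, hV, hxV, hVW⟩ := exists_isAffineOpen_mem_and_subset (x := x) (U := W) hxW
    have he := hd.mono (show V ≤ W from hVW)
    obtain ⟨c, hc⟩ := he.exists_coeff le_rfl (rs N le_top (secOf σ))
    rw [rs_self] at hc
    have hbij := bijective_germ_frame he hxV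
    let e := N.presheaf.germ V x hxV (rs N (show V ≤ W from hVW) d)
    let cx := X.presheaf.germ V x hxV c
    have hσ : st σ x (one X x) = cx • e := by
      rw [show one X x = (Coh.structureModule X).presheaf.germ ⊤ x trivial (oneSec X) from rfl, st_germ,
        ← Groth.L20.ModStalk.germ_smul, hc, Groth.L20.ModStalk.germ_rs]
      rfl
    rw [hσ, map_smul, stI_eq_map _ hV hxV, Groth.L21.Mero.zeroScheme_ideal_frame hN σ ⟨V, hV⟩ he hc,
      Ideal.map_span, Set.image_singleton, Ideal.span_singleton_le_iff_mem]
    let θ := tensorStalkEquiv (L := N) (ClSub.quotMod I) (x := x) (e := e) hbij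
    constructor
    · intro h
      apply θ.injective
      rw [map_smul, map_zero]
      obtain ⟨r, hr⟩ := quotMap_surjective I x (θ (st (twπ N I) x e))
      rw [← hr, ← map_smul, smul_eq_mul, ← LinearMap.mem_ker, ker_quotMap]
      exact Ideal.mul_mem_right _ _ h
    · intro h
      obtain ⟨v, hv⟩ := (Groth.L21.Mod.epi_iff_stalk_surjective (twπ N I)).1 inferInstance x
        (θ.symm (quotMap I x 1))
      obtain ⟨r, rfl⟩ := hbij.2 v
      show cx ∈ stI I x
      rw [← ker_quotMap, LinearMap.mem_ker, ← mul_one cx, ← smul_eq_mul, map_smul,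
        ← θ.apply_symm_apply (quotMap I x 1), ← map_smul, ← hv]
      refine (congrArg θ ?_).trans (map_zero θ)
      change cx • st (twπ N I) x (r • e) = 0
      rw [map_smul, smul_comm, h, smul_zero]
  constructor
  · intro hle
    have h0 : σ ≫ twπ N I = 0 := by
      refine Groth.L21.Mod.hom_ext_stalk fun x => ?_
      ext v
      rw [Functor.map_zero]
      obtain ⟨a, rfl⟩ := (Groth.L21.RR.bijective_smul_one x).2 v
      change st (σ ≫ twπ N I) x (a • one X x) = 0
      rw [map_smul, Groth.L03.BlowPt.QuotSeq.st_comp, (key x).1 (stI_mono hle x), smul_zero]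
    exact ⟨hS.exact.lift σ h0, hS.exact.lift_f σ h0⟩
  · rintro ⟨τ, rfl⟩
    refine le_of_stI fun x => (key x).2 ?_
    rw [← Groth.L03.BlowPt.QuotSeq.st_comp, Category.assoc, twι_twπ, comp_zero, Groth.L03.BlowPt.QuotSeq.st_zero]

end Groth.L03.AdjLin
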