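import Groth.Agent.L03.AdjLin.Point
import Groth.Agent.L03.AdjLin.ZeroFac
import Groth.Agent.L22.ExtSh.NatDual
import Groth.Agent.L22.PDual.ExtSheafHom
import Groth.Agent.L22.PDual.TwistExt
import Groth.Agent.L08.Cube.Inverse

/-!
Serre duality turns the extension criterion into the Cayley–Bacharach condition.
-/

set_option autoImplicit false
set_option backward.isDefEq.respectTransparency false
set_option linter.style.haveILetI false
set_option linter.unusedSectionVars false
universe u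

open CategoryTheory CategoryTheory.Limits CategoryTheory.Abelian AlgebraicGeometry TopologicalSpace Opposite

noncomputable section

namespace Groth.L03.AdjLin

open Groth.L16
open Groth.L16.CohLinear (hmap overLin delta hmap_comp exact_hmap_hmap exact_hmap_delta exact_delta_hmap)
open Groth.L22.NatDual (pair pair_mk₀ pair_mk₀_comp bijective_pair)
open Groth.L22.Reg (O')
open Groth.L21.RR (twι oneSec e0)

variable {k : Type u} [Field k] {X : Scheme.{u}} [X.Over (Spec (CommRingCat.of k))]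
  [IsProper (X ↘ Spec (CommRingCat.of k))] [IsIntegral X] [HasExt.{u} X.Modules]

/-- Tensoring on the left by a module with an inverse is an equivalence. -/
theorem isEquivalence_tensorLeft {L L' : X.Modules} (e : CohB1.tensorMod L L' ≅ Coh.structureModule X) :
    ((DCoh.tensorBi (X := X)).obj L).IsEquivalence :=
  haveI := Groth.L22.PDual.isEquivalence_tensorRightF e
  Functor.isEquivalence_of_iso (Groth.L22.PDual.rightBiIso L)

/-- The pairing in degree one is perfect. -/
theorem bijective_pair_one' (s : Surf X) {n : ℕ} (ι : X ⟶ CohB1.ProjSpace n k) [IsClosedImmersion ι]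
    {ω : X.Modules} (hω : PicF.IsInvertible ω) {t : Coh.HH X ω 2 →ₗ[k] k} (ht : Groth.L22.DualCM.IsDual t)
    {G : X.Modules} (hG : Coh.IsCoh G) : Function.Bijective (pair t G (show 1 + 1 = 2 from rfl)) := by
  haveI := Groth.L22.PDual.proper n k
  haveI := Groth.L21.RR.isNoetherian_of_proper (X := CohB1.ProjSpace n k) k
  haveI := Groth.L21.RR.isNoetherian_of_proper (X := X) k
  haveI := Groth.L00.Tensor.grothendieckAbelian_modules X
  have hωc := Groth.L18.Ample.isCoh_of_isInvertible hω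
  obtain ⟨d, hdE⟩ := Groth.L22.ExtSh.exists_ext_twist_vanish_all ι hωc
  obtain ⟨q₁, hq₁⟩ := (Groth.L22.PDual.cm_iff_vanish ι 2 (s.dim.trans Nat.cast_ofNat.symm)).1
    (fun x hx => ⟨(haveI := s.reg x; Groth.L04.isCohenMacaulayLocalRing_of_regular _), s.dimc x hx⟩)
    _ isFinLocFree_structureModule
  refine bijective_pair t (fun F hF => ⟨fun a b hab => ?_, fun ψ => ?_⟩) 1 ?_ 1 le_rfl _ G hG
  · obtain ⟨φ, rfl⟩ := (Ext.mk₀_bijective F ω).2 a
    obtain ⟨φ', rfl⟩ := (Ext.mk₀_bijective F ω).2 b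
    refine congrArg Ext.mk₀ ((Groth.L22.DualCM.bijective_B ht hF).1 (LinearMap.ext fun x => ?_))
    exact (pair_mk₀ t φ x).symm.trans ((LinearMap.congr_fun hab x).trans (pair_mk₀ t φ' x))
  · obtain ⟨φ, hφ⟩ := (Groth.L22.DualCM.bijective_B ht hF).2 ψ
    exact ⟨Ext.mk₀ φ, LinearMap.ext fun x => (pair_mk₀ t φ x).trans (LinearMap.congr_fun hφ x)⟩
  intro F hF
  obtain ⟨q, r, p, hq, hp⟩ := Groth.L22.DualCM.exists_epi_sum ι hF (d.toNat + q₁)
  let P := ∐ fun _ : Fin r => (Scheme.Modules.pullback ι).obj (O' n k (-(q : ℤ)))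
  have hPc : Coh.IsCoh P :=
    Groth.L16.NegPow.isCoh_of_isFinLocFree (Groth.L29.DC.isFinLocFree_coprod_fin r _ fun _ =>
      Groth.L29.LocFree.pullback ι (Groth.L20.ResDescent.isFinLocFree_of_isInvertible
        (Groth.L16.ProjTwist.isInvertible_twistProjSpace n k _)))
  refine ⟨kernel p, P, kernel.ι p, p, kernel.condition p, { exact := ShortComplex.exact_kernel p },
    (CohKernel.isCoh_kernel_cokernel hPc hF p).1, hPc, fun l => ?_, fun j hj _ => ?_⟩
  · exact Groth.L10.AcycObj.subsingleton_ext_coprod _ ω (fun _ i => hdE q (by omega) (i + 1) (Nat.succ_pos i)) l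
  · exact ProjSpace.subsingleton_sigma _ j fun _ =>
      Groth.L16.ProjSpace.subsingleton_of_iso (Groth.L00.Tensor.tensorUnitLeft _).symm j (hq₁ q (by omega) j hj)

/-- Surjectivity on Ext groups is injectivity on the first cohomology of the dual twist. -/
theorem surjective_precomp_iff (s : Surf X) {n : ℕ} (ι : X ⟶ CohB1.ProjSpace n k) [IsClosedImmersion ι]
    {ω : X.Modules} (hω : PicF.IsInvertible ω) {t : Coh.HH X ω 2 →ₗ[k] k} (ht : Groth.L22.DualCM.IsDual t)
    {M N : X.Modules} (hN : PicF.IsInvertible N) (e : CohB1.tensorMod N M ≅ ω)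
    {A B : X.Modules} (hA : Coh.IsCoh A) (hB : Coh.IsCoh B) (φ : A ⟶ B) :
    Function.Surjective ((Ext.mk₀ φ).precomp M (zero_add 1)) ↔
      Function.Injective (hmap (((DCoh.tensorBi (X := X)).obj N).map φ) 1) := by
  haveI := Groth.L00.Tensor.grothendieckAbelian_modules X
  haveI := Groth.L21.RR.isNoetherian_of_proper (X := X) k
  obtain ⟨N', -, ⟨eN⟩⟩ := Groth.L08.Cube.exists_inverse hN
  let T := (DCoh.tensorBi (X := X)).obj N
  haveI : T.IsEquivalence := isEquivalence_tensorLeft eN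
  haveI : T.PreservesInjectiveObjects :=
    ⟨fun {I} hI => (Equivalence.map_injective_iff T.asEquivalence I).2 hI⟩
  have hc : ∀ {G : X.Modules}, Coh.IsCoh G → Coh.IsCoh (T.obj G) := fun {G} hG =>
    Groth.L16.CohSupport.isCoh_of_iso ((Groth.L22.PDual.rightBiIso N).app G) (Groth.L03.Euler.isCoh_tensor hN hG)
  have hb : ∀ G : X.Modules, Function.Bijective fun z : Ext G M 1 =>
      (z.mapExactFunctor T).comp (Ext.mk₀ e.hom) (add_zero 1) := fun G => by
    refine Function.Bijective.comp (g := fun z : Ext (T.obj G) (T.obj M) 1 => z.comp (Ext.mk₀ e.hom) (add_zero 1))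
      ⟨fun a b h => ?_, fun y => ⟨y.comp (Ext.mk₀ e.inv) (add_zero 1), ?_⟩⟩
      (T.mapExt_bijective_of_preservesInjectiveObjects G M 1)
    · have := congrArg (fun q => q.comp (Ext.mk₀ e.inv) (add_zero 1)) h
      simpa using this
    · simp
  let g := overLin k (hmap (T.map φ) 1)
  have hA' := bijective_pair_one' s ι hω ht (hc hA)
  have hB' := bijective_pair_one' s ι hω ht (hc hB)
  have hsq : ∀ y : Ext B M 1,
      pair t (T.obj A) (show 1 + 1 = 2 from rfl)
          ((((Ext.mk₀ φ).comp y (zero_add 1)).mapExactFunctor T).comp (Ext.mk₀ e.hom) (add_zero 1)) =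
        g.dualMap (pair t (T.obj B) (show 1 + 1 = 2 from rfl)
          ((y.mapExactFunctor T).comp (Ext.mk₀ e.hom) (add_zero 1))) := fun y => LinearMap.ext fun x => by
    rw [Ext.mapExactFunctor_comp, Ext.mapExactFunctor_mk₀, Ext.comp_assoc_of_third_deg_zero]
    exact pair_mk₀_comp t _ (T.map φ) _ x
  rw [show Function.Injective (hmap (T.map φ) 1) ↔ Function.Injective g from Iff.rfl,
    ← LinearMap.dualMap_surjective_iff]
  constructor
  · intro h ψ
    obtain ⟨z, hz⟩ := (hA'.comp (hb A)).2 ψ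
    obtain ⟨y, rfl⟩ := h z
    exact ⟨_, (hsq y).symm.trans hz⟩
  · intro h z
    obtain ⟨χ, hχ⟩ := h (pair t (T.obj A) (show 1 + 1 = 2 from rfl) ((z.mapExactFunctor T).comp (Ext.mk₀ e.hom) (add_zero 1)))
    obtain ⟨y, rfl⟩ := (hB'.comp (hb B)).2 χ
    exact ⟨y, (hA'.comp (hb A)).1 ((hsq y).trans hχ)⟩

variable [IsAlgClosed k]

/-- At one point: not all classes are induced exactly when the sections satisfy the condition. -/
theorem not_surjective_iff_cb (s : Surf X) {n : ℕ} (ι : X ⟶ CohB1.ProjSpace n k) [IsClosedImmersion ι]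
    {ω : X.Modules} (hω : PicF.IsInvertible ω) {t : Coh.HH X ω 2 →ₗ[k] k} (ht : Groth.L22.DualCM.IsDual t)
    {M N : X.Modules} (hN : PicF.IsInvertible N) (e : CohB1.tensorMod N M ≅ ω)
    (IP : X.IdealSheafData) (hfin : (IP.support : Set ↥X).Finite)
    (hlci : ∀ x : X, ∃ V : X.affineOpens, x ∈ (V : X.Opens) ∧ ∃ a b : Γ(X, V), IP.ideal V = Ideal.span {a, b})
    {I' : X.IdealSheafData} (hcov : IP ⋖ I') (φ : ClSub.idealMod IP ⟶ ClSub.idealMod I')
    (hφ : φ ≫ ClSub.idealModι I' = ClSub.idealModι IP) :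
    ¬ Function.Surjective ((Ext.mk₀ φ).precomp M (zero_add 1)) ↔
      ∀ σ : Coh.structureModule X ⟶ N, PicF2.zeroScheme N σ ≤ I' → PicF2.zeroScheme N σ ≤ IP := by
  haveI := Groth.L00.Tensor.grothendieckAbelian_modules X
  haveI := Groth.L21.RR.isNoetherian_of_proper (X := X) k
  obtain ⟨z, hz, hzP, hle⟩ := exists_cover_le IP s hfin hlci hcov.lt
  obtain rfl : cover IP hz = I' :=
    (hcov.eq_or_eq (le_cover IP hz) hle).resolve_left (lt_cover IP hz s hfin hzP).ne'
  rw [surjective_precomp_iff s ι hω ht hN e (isCoh_idealMod IP) (isCoh_idealMod _) φ]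
  obtain ⟨N', -, ⟨eN⟩⟩ := Groth.L08.Cube.exists_inverse hN
  let T := (DCoh.tensorBi (X := X)).obj N
  haveI : T.IsEquivalence := isEquivalence_tensorLeft eN
  haveI := mono_fac φ hφ
  have hS : (ShortComplex.mk φ (cokernel.π φ) (cokernel.condition φ)).ShortExact :=
    { exact := ShortComplex.exact_cokernel φ }
  have hTS := hS.map_of_exact T
  obtain ⟨⟨g0, hg0⟩, hline⟩ := sections_line IP hz s hfin hlci hzP φ hφ k hN
  let f0 := hmap (T.map φ) 0
  let p0 := hmap (T.map (cokernel.π φ)) 0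
  let p0' := overLin k p0
  have ex1 : Function.Exact f0 p0 := exact_hmap_hmap hTS 0
  have ex2 : Function.Exact p0 (delta hTS 0) := exact_hmap_delta hTS 0
  have ex3 : Function.Exact (delta hTS 0) (hmap (T.map φ) 1) := exact_delta_hmap hTS 0
  have h1 : ¬ Function.Injective (hmap (T.map φ) 1) ↔ ∀ a, p0 a = 0 := by
    constructor
    · intro hni a
      by_contra ha
      refine hni ((injective_iff_map_eq_zero _).2 fun y hy => ?_)
      obtain ⟨w, rfl⟩ := (ex3 y).1 hy
      obtain ⟨c, hc⟩ := hline w (p0 a) ha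
      refine (ex2 w).2 ⟨c • a, ?_⟩
      show p0' (c • a) = w
      rw [map_smul]
      exact hc.symm
    · intro h hinj
      have hd : delta hTS 0 g0 = 0 := hinj (((ex3 _).2 ⟨g0, rfl⟩).trans (map_zero _).symm)
      obtain ⟨a, ha⟩ := (ex2 g0).1 hd
      exact hg0 (ha.symm.trans (h a))
  rw [h1]
  have hι : T.map φ ≫ twι N (cover IP hz) = twι N IP := by
    show T.map φ ≫ T.map (ClSub.idealModι (cover IP hz)) ≫ _ = T.map (ClSub.idealModι IP) ≫ _
    rw [← Category.assoc, ← T.map_comp, hφ]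
  constructor
  · intro h σ hσ
    obtain ⟨τ, hτ⟩ := (zeroScheme_le_iff hN σ _).1 hσ
    obtain ⟨w, hw⟩ := (ex1 ((e0 _).symm (τ.app ⊤ (oneSec X)))).1 (h _)
    obtain ⟨τ', hτ'⟩ := Groth.L21.RR.exists_hom_of_hh0 w
    refine (zeroScheme_le_iff hN σ IP).2 ⟨τ', ?_⟩
    have hcomp : τ' ≫ T.map φ = τ := Groth.L21.RR.hom_ext_one (by
      show (T.map φ).app ⊤ (τ'.app ⊤ (oneSec X)) = _
      rw [hτ']
      refine (Groth.L21.RR.e0_hmap (T.map φ) w).symm.trans ?_
      exact (congrArg (e0 _) hw).trans (AddEquiv.apply_symm_apply _ _))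
    rw [← hι, ← Category.assoc]
    exact (congrArg (· ≫ twι N (cover IP hz)) hcomp).trans hτ
  · intro h a
    obtain ⟨τ, hτ⟩ := Groth.L21.RR.exists_hom_of_hh0 a
    obtain ⟨τ', hτ'⟩ := (zeroScheme_le_iff hN _ IP).1
      (h (τ ≫ twι N (cover IP hz)) ((zeroScheme_le_iff hN _ _).2 ⟨τ, rfl⟩))
    haveI : Mono (twι N (cover IP hz)) := (Groth.L21.RR.shortExact_tw _ hN).mono_f
    have hcomp : τ' ≫ T.map φ = τ :=
      (cancel_mono (twι N (cover IP hz))).1 (by rw [Category.assoc, hι, hτ'])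
    refine (ex1 a).2 ⟨(e0 _).symm (τ'.app ⊤ (oneSec X)), (e0 _).injective ?_⟩
    refine (Groth.L21.RR.e0_hmap (T.map φ) _).trans ?_
    rw [AddEquiv.apply_symm_apply, ← hτ, ← hcomp]
    rfl

end Groth.L03.AdjLin
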