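import Groth.Agent.L03.AdjLin.Hull
import Groth.Agent.L12.DefoSh.Ext
import Groth.Agent.L21.CurveAdj.Marked

/-!
Classes of extensions and morphisms of extensions; ideals between two finite sets of points.
-/

set_option autoImplicit false
set_option backward.isDefEq.respectTransparency false
set_option linter.style.haveILetI false
universe w v u

open CategoryTheory CategoryTheory.Limits CategoryTheory.Abelian AlgebraicGeometry TopologicalSpace Opposite

noncomputable section

namespace Groth.L03.AdjLin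

section Abelian

variable {C : Type u} [Category.{v} C] [Abelian C] [HasExt.{w} C]
variable {A A' B M M' : C} {f : B ⟶ M} {g : M ⟶ A} {f' : B ⟶ M'} {g' : M' ⟶ A'} {w₁ : f ≫ g = 0}
  {w₂ : f' ≫ g' = 0} (h : (ShortComplex.mk f g w₁).ShortExact) (h' : (ShortComplex.mk f' g' w₂).ShortExact)
  (φ : A ⟶ A')

/-- A morphism of extensions pulls the class back. -/
theorem extClass_of_hom (m : M ⟶ M') (h1 : f ≫ m = f') (h2 : m ≫ g' = g ≫ φ) :
    (Ext.mk₀ φ).comp h'.extClass (zero_add 1) = h.extClass := by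
  let Φ : ShortComplex.mk f g w₁ ⟶ ShortComplex.mk f' g' w₂ :=
    { τ₁ := 𝟙 B
      τ₂ := m
      τ₃ := φ
      comm₁₂ := (Category.id_comp f').trans h1.symm
      comm₂₃ := h2 }
  refine Eq.trans ?_ (Ext.comp_mk₀_id h.extClass)
  exact (ShortComplex.ShortExact.extClass_naturality h h' Φ).symm

/-- An extension whose class is a pull-back maps to the extension pulled back. -/
theorem exists_hom_of_extClass (e : (Ext.mk₀ φ).comp h'.extClass (zero_add 1) = h.extClass) :
    ∃ m : M ⟶ M', f ≫ m = f' ∧ m ≫ g' = g ≫ φ := by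
  obtain ⟨y, hy⟩ := Ext.covariant_sequence_exact₃ M h' (Ext.mk₀ (g ≫ φ)) (zero_add 1) (by
    rw [← Ext.mk₀_comp_mk₀, Ext.comp_assoc_of_second_deg_zero, e]
    exact h.comp_extClass)
  obtain ⟨m₀, rfl⟩ := (Ext.mk₀_bijective _ _).2 y
  rw [Ext.mk₀_comp_mk₀] at hy
  have hm : m₀ ≫ g' = g ≫ φ := (Ext.mk₀_bijective _ _).1 hy
  haveI := h'.mono_f
  let c : B ⟶ B := h'.exact.lift (f ≫ m₀) (by
    show (f ≫ m₀) ≫ g' = 0
    rw [Category.assoc, hm, ← Category.assoc, w₁, zero_comp])
  have hc : c ≫ f' = f ≫ m₀ := h'.exact.lift_f _ _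
  let Φ : ShortComplex.mk f g w₁ ⟶ ShortComplex.mk f' g' w₂ :=
    { τ₁ := c
      τ₂ := m₀
      τ₃ := φ
      comm₁₂ := hc
      comm₂₃ := hm }
  have hn : h.extClass.comp (Ext.mk₀ c) (add_zero 1) = h.extClass :=
    (ShortComplex.ShortExact.extClass_naturality h h' Φ).trans e
  have hz : h.extClass.comp (Ext.mk₀ (c - 𝟙 B)) (add_zero 1) = 0 := by
    have hsub : Ext.mk₀ (c - 𝟙 B) = Ext.mk₀ c - Ext.mk₀ (𝟙 B) := by
      rw [eq_sub_iff_add_eq, ← Ext.mk₀_add, sub_add_cancel]
    rw [hsub, sub_eq_add_neg, Ext.comp_add, Ext.comp_neg]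
    erw [hn, Ext.comp_mk₀_id]
    exact add_neg_cancel _
  obtain ⟨y', hy'⟩ := Ext.contravariant_sequence_exact₁ h B _ (add_zero 1) hz
  obtain ⟨b, rfl⟩ := (Ext.mk₀_bijective _ _).2 y'
  rw [Ext.mk₀_comp_mk₀] at hy'
  have hb : f ≫ b = c - 𝟙 B := (Ext.mk₀_bijective _ _).1 hy'
  refine ⟨m₀ - b ≫ f', ?_, ?_⟩
  · rw [Preadditive.comp_sub, ← Category.assoc, hb, Preadditive.sub_comp, hc, Category.id_comp]
    abel
  · rw [Preadditive.sub_comp, Category.assoc, w₂, comp_zero, sub_zero, hm]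

end Abelian

open Groth.L21.RR (st one)
open Groth.L21.CurveAdj (stI stI_eq_map)

variable {X : Scheme.{u}}

/-- Inclusions of ideals are checked on stalks. -/
theorem le_of_stI {I J : X.IdealSheafData} (h : ∀ x : X, stI I x ≤ stI J x) : I ≤ J := by
  have hz : ClSub.idealModι I ≫ ClSub.toSubscheme J = 0 := by
    refine Groth.L21.Mod.hom_ext_stalk fun x => ?_
    obtain ⟨V, hV, hxV, -⟩ := exists_isAffineOpen_mem_and_subset (x := x) (U := ⊤) trivial
    ext v
    rw [Functor.map_zero]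
    change st (ClSub.idealModι I ≫ ClSub.toSubscheme J) x v = 0
    obtain ⟨r, hr, he⟩ := (Groth.L21.RR.range_st_idealModι I hV hxV _).1 ⟨v, rfl⟩
    rw [Groth.L03.BlowPt.QuotSeq.st_comp, ← he, Groth.L03.BlowPt.QuotSeq.st_toSubscheme_eq_zero_iff J hV hxV]
    rw [← stI_eq_map I hV hxV] at hr
    rw [← stI_eq_map J hV hxV]
    exact h x hr
  exact le_of_fac (kernel.lift _ (ClSub.idealModι I) hz) (kernel.lift_ι _ _ _)

theorem stI_eq_top_of_notMem (I : X.IdealSheafData) {x : X} (hx : x ∉ I.support) : stI I x = ⊤ :=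
  eq_top_iff.2 fun r _ => st_idealModι_surjective I hx _

theorem stI_mono {I J : X.IdealSheafData} (h : I ≤ J) (x : X) : stI I x ≤ stI J x := by
  obtain ⟨V, hV, hxV, -⟩ := exists_isAffineOpen_mem_and_subset (x := x) (U := ⊤) trivial
  rw [stI_eq_map I hV hxV, stI_eq_map J hV hxV]
  exact Ideal.map_mono (h _)

/-- An ideal containing that of finitely many closed points is the ideal of some of them. -/
theorem vanishingIdeal_le_of_le [AlgebraicGeometry.IsNoetherian X] {D D' : Set X} (hD : IsClosed D) (hfin : D.Finite)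
    (hpts : ∀ x ∈ D, IsClosed ({x} : Set X)) (hD' : IsClosed D') {I : X.IdealSheafData}
    (h : Scheme.IdealSheafData.vanishingIdeal ⟨D, hD⟩ ≤ I)
    (h' : ∀ x ∈ D, x ∈ I.support → x ∈ D') (hsub : D' ⊆ D) :
    Scheme.IdealSheafData.vanishingIdeal ⟨D', hD'⟩ ≤ I := le_of_stI fun x => by
  by_cases hx : x ∈ I.support
  · have hxD : x ∈ D := by
      by_contra hxD
      have hn : x ∉ (Scheme.IdealSheafData.vanishingIdeal ⟨D, hD⟩).support := fun hm => hxD (by
        rw [← SetLike.mem_coe, Scheme.IdealSheafData.coe_support_vanishingIdeal] at hm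
        exact hm)
      have htop : stI I x = ⊤ := top_le_iff.1 ((stI_eq_top_of_notMem _ hn).ge.trans (stI_mono h x))
      refine Groth.L22.CurveAmple.mem_support_quotMod I hx (subsingleton_of_forall_eq 0 fun v => ?_)
      obtain ⟨r, rfl⟩ := Groth.L21.CurveAdj.quotMap_surjective I x v
      rw [← LinearMap.mem_ker, Groth.L21.CurveAdj.ker_quotMap, htop]
      exact Submodule.mem_top
    rw [Groth.L21.CurveAdj.stI_vanishingIdeal_finite hD' (hfin.subset hsub) (fun y hy => hpts y (hsub hy))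
      (h' x hxD hx), ← Groth.L21.CurveAdj.stI_vanishingIdeal_finite hD hfin hpts hxD]
    exact stI_mono h x
  · rw [stI_eq_top_of_notMem I hx]
    exact le_top

end Groth.L03.AdjLin
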