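import Groth.Agent.L03.AdjLin.Tools
import Groth.Agent.L03.VBPn.Serre.Homs
import Groth.Agent.L22.ExtSh.DualCM
import Groth.Agent.L22.ExtSh.TorsionFree
import Groth.Agent.L17.CohClass

/-!
An extension of an ideal with finite cosupport by an invertible module is locally free unless it is
induced from a larger ideal.
-/

set_option autoImplicit false
set_option backward.isDefEq.respectTransparency false
set_option linter.style.haveILetI false
set_option linter.unusedSectionVars false
universe u

open CategoryTheory CategoryTheory.Limits CategoryTheory.Abelian AlgebraicGeometry TopologicalSpace Opposite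

noncomputable section

namespace Groth.L03.AdjLin

open Groth.L16.HomSh (homMod curryHom curryEquiv)
open Groth.L22.PDual (pre' pre'_comp pre'_zero pre'_id)
open Groth.L22.ExtSh (E)
open Groth.L00.Tensor (tensorUnitRight)
open Groth.L03.SurfExt (bd bd_natural isIso_bd isFinLocFree_homMod)
open Groth.L03.VBPn.Serre (idSec exists_exact_pre exists_of_section isIso_pre)
open Groth.L21.RR (st SuppClosed)

variable {X : Scheme.{u}}

theorem idSec_pre' {K G : X.Modules} (h : K ⟶ G) :
    idSec G ≫ pre' G h = curryHom ((tensorUnitRight K).hom ≫ h) := by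
  rw [idSec, ← Groth.L22.PDual.curryHom_natural, Groth.L22.Reg.tensorUnitRight_natural]

/-- Morphisms are determined by the associated sections. -/
theorem injective_idSec_pre' (K G : X.Modules) : Function.Injective fun h : K ⟶ G => idSec G ≫ pre' G h := by
  intro h₁ h₂ e
  change idSec G ≫ pre' G h₁ = idSec G ≫ pre' G h₂ at e
  rw [idSec_pre', idSec_pre'] at e
  exact (cancel_epi (tensorUnitRight K).hom).1 ((curryEquiv K (Coh.structureModule X) G).injective e)

theorem stalk_subsingleton_of_iso {A B : X.Modules} (e : A ≅ B) (x : X)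
    (h : Subsingleton (A.presheaf.stalk x)) : Subsingleton (B.presheaf.stalk x) :=
  @Equiv.subsingleton _ _ ((Groth.L00.Stk.F X x).mapIso e).symm.toLinearEquiv.toEquiv h

variable [IsLocallyNoetherian X] [HasInjectiveResolutions X.Modules]

/-- An extension induced from a larger ideal is not locally free. -/
theorem not_isFinLocFree_of_larger (s : Surf X) {M : X.Modules} (hM : PicF.IsInvertible M)
    {IZ : X.IdealSheafData} (hZ : (IZ.support : Set ↥X).Finite)
    {F : X.Modules} {a : M ⟶ F} {b : F ⟶ ClSub.idealMod IZ} {w : a ≫ b = 0}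
    (hex : (ShortComplex.mk a b w).ShortExact) {I' : X.IdealSheafData} {F' : X.Modules} {a' : M ⟶ F'}
    {b' : F' ⟶ ClSub.idealMod I'} {w' : a' ≫ b' = 0} (hex' : (ShortComplex.mk a' b' w').ShortExact)
    (φ : ClSub.idealMod IZ ⟶ ClSub.idealMod I') (g : F ⟶ F') (hne : IZ ≠ I')
    (hφ : φ ≫ ClSub.idealModι I' = ClSub.idealModι IZ) (hag : a ≫ g = a') (hgb : g ≫ b' = b ≫ φ) :
    ¬ FlatMod.IsFinLocFree F := by
  intro hF
  have hMc := Groth.L18.Ample.isCoh_of_isInvertible hM
  have hFc := Groth.L16.NegPow.isCoh_of_isFinLocFree hF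
  have hF'c : Coh.IsCoh F' := Groth.L17.CohClass.isCoh_of_shortExact _ hex' hMc (isCoh_idealMod I')
  have hQc : Coh.IsCoh (cokernel φ) :=
    (Groth.L16.CohKernel.isCoh_kernel_cokernel (isCoh_idealMod IZ) (isCoh_idealMod I') φ).2
  have hQs := suppClosed_cokernel_fac s hZ φ hφ
  haveI := mono_fac φ hφ
  haveI : Mono a' := hex'.mono_f
  haveI : Epi b' := hex'.epi_g
  haveI : Epi b := hex.epi_g
  haveI : Mono g := Preadditive.mono_of_cancel_zero _ fun {W} x hx => by
    have h1 : x ≫ b = 0 := (cancel_mono φ).1 (by rw [Category.assoc, ← hgb, reassoc_of% hx, zero_comp, zero_comp])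
    haveI : Mono a := hex.mono_f
    have h2 : hex.exact.lift x h1 ≫ a' = 0 := by
      rw [← hag, ← Category.assoc]
      exact (congrArg (· ≫ g) (hex.exact.lift_f x h1)).trans hx
    have h3 := hex.exact.lift_f x h1
    rw [(cancel_mono a').1 (h2.trans zero_comp.symm)] at h3
    exact h3.symm.trans zero_comp
  let π : F' ⟶ cokernel φ := b' ≫ cokernel.π φ
  have hπ : g ≫ π = 0 := by
    show g ≫ b' ≫ _ = 0
    rw [reassoc_of% hgb, cokernel.condition, comp_zero]
  have key : ∀ {W : X.Modules} (q : F' ⟶ W), g ≫ q = 0 → ∃ l, π ≫ l = q := fun {W} q hq => by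
    have h1 : a' ≫ q = 0 := by rw [← hag, Category.assoc, hq, comp_zero]
    obtain ⟨q₁, hq₁⟩ : ∃ q₁, b' ≫ q₁ = q := ⟨hex'.exact.desc q h1, hex'.exact.g_desc q h1⟩
    have h2 : φ ≫ q₁ = 0 := (cancel_epi b).1 (by rw [← reassoc_of% hgb, hq₁, hq, comp_zero])
    exact ⟨cokernel.desc φ q₁ h2, by rw [Category.assoc, cokernel.π_desc, hq₁]⟩
  haveI : Epi π := epi_comp _ _
  have hS : (ShortComplex.mk g π hπ).ShortExact :=
    { exact := ShortComplex.exact_of_g_is_cokernel _ (CokernelCofork.IsColimit.ofπ _ _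
        (fun q hq => (key q hq).choose) (fun q hq => (key q hq).choose_spec)
        (fun q hq m hm => (cancel_epi π).1 (hm.trans (key q hq).choose_spec.symm))) }
  haveI : IsIso (pre' F g) := isIso_pre hS hFc hF'c hQc F (isZero_E s hQc hQs hF two_pos)
    (isZero_E s hQc hQs hF one_lt_two)
  obtain ⟨r, hr⟩ := exists_of_section (idSec F ≫ inv (pre' F g))
  have hgr : g ≫ r = 𝟙 F := injective_idSec_pre' F F <| by
    show idSec F ≫ pre' F (g ≫ r) = idSec F ≫ pre' F (𝟙 F)
    rw [pre'_comp, reassoc_of% hr, IsIso.inv_hom_id, pre'_id]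
  obtain ⟨l, hl⟩ := key (𝟙 F' - r ≫ g)
    (by rw [Preadditive.comp_sub, Category.comp_id, reassoc_of% hgr, sub_self])
  have hlb : l ≫ b' = 0 := by
    haveI : Mono (ClSub.idealModι I') := inferInstanceAs (Mono (kernel.ι _))
    refine (cancel_mono (ClSub.idealModι I')).1 ?_
    rw [zero_comp]
    exact hom_eq_zero s hQc hQs isFinLocFree_structureModule _
  have hl0 : l = 0 := by
    rw [← hex'.exact.lift_f l hlb, hom_eq_zero s hQc hQs (Groth.L20.ResDescent.isFinLocFree_of_isInvertible hM)
      (hex'.exact.lift l hlb)]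
    exact zero_comp
  rw [hl0, comp_zero, eq_comm, sub_eq_zero] at hl
  haveI : Epi φ := Preadditive.epi_of_cancel_zero _ fun {W} q hq => by
    refine (cancel_epi b').1 ?_
    rw [comp_zero, ← Category.id_comp (b' ≫ q), hl, Category.assoc, reassoc_of% hgb, hq, comp_zero, comp_zero]
  haveI : IsIso φ := isIso_of_mono_of_epi φ
  exact hne (eq_of_isIso_fac φ hφ)

/-- The dual of a coherent module on a regular projective surface is locally free. -/
theorem isFinLocFree_dual [IsIntegral X] (s : Surf X) {k : Type u} [Field k] [X.Over (Spec (CommRingCat.of k))]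
    [IsProper (X ↘ Spec (CommRingCat.of k))] {N : ℕ}
    (ι : X ⟶ CohB1.ProjSpace N k) [IsClosedImmersion ι] {F : X.Modules} (hF : Coh.IsCoh F) :
    FlatMod.IsFinLocFree (homMod F (Coh.structureModule X)) := by
  haveI := Groth.L00.Tensor.grothendieckAbelian_modules X
  obtain ⟨q, r, p, -, hp⟩ := Groth.L22.DualCM.exists_epi_sum ι hF 0
  haveI := hp
  have hPf : FlatMod.IsFinLocFree (∐ fun _ : Fin r => (Scheme.Modules.pullback ι).obj
      (Groth.L22.Reg.O' N k (-(q : ℤ)))) :=
    Groth.L29.DC.isFinLocFree_coprod_fin r _ fun _ => Groth.L29.LocFree.pullback ι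
      (Groth.L20.ResDescent.isFinLocFree_of_isInvertible (Groth.L16.ProjTwist.isInvertible_twistProjSpace N k _))
  have hPc := Groth.L16.NegPow.isCoh_of_isFinLocFree hPf
  have hKc : Coh.IsCoh (kernel p) := (Groth.L16.CohKernel.isCoh_kernel_cokernel hPc hF p).1
  let O := Coh.structureModule X
  haveI : Coh.IsQCoh O := isCoh_structureModule.1
  have hO := Groth.L18.Ample.isInvertible_structureModule X
  let S : ShortComplex X.Modules := ShortComplex.mk (kernel.ι p) p (kernel.condition p)
  have hS : S.ShortExact := { exact := ShortComplex.exact_kernel p }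
  obtain ⟨δ, w, hm, he, -, -⟩ := exists_exact_pre hS hKc hPc hF O
  let f := pre' O S.f
  have hPd : FlatMod.IsFinLocFree (homMod S.X₂ O) := isFinLocFree_homMod hPf hO
  have hKd : Coh.IsCoh (homMod S.X₁ O) := Groth.L16.HomSh.isCoh_homMod hKc isCoh_structureModule
  have hI : Coh.IsCoh (Abelian.image f) :=
    (Groth.L16.CohKernel.isCoh_kernel_cokernel hKd
      (Groth.L16.CohKernel.isCoh_kernel_cokernel (Groth.L16.NegPow.isCoh_of_isFinLocFree hPd) hKd f).2
      (cokernel.π f)).1
  have hker : FlatMod.IsFinLocFree (kernel (Abelian.factorThruImage f)) := by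
    refine Groth.L03.SurfExt.isFinLocFree_kernel s.reg s.dim.le hPd hI (fun x hx _ => ?_) _
    have hxη : x ≠ genericPoint ↥X := fun h => by
      have hd := s.dimc x hx
      subst h
      rw [ringKrullDim_eq_zero_of_isField (Field.toIsField X.functionField)] at hd
      exact absurd hd (by decide)
    refine Groth.L03.SurfExt.one_le_depth_of_torsionFree ?_ hxη
    haveI := s.reg x
    haveI : Module.IsTorsionFree (X.presheaf.stalk x) (O.presheaf.stalk x) := by
      obtain ⟨e⟩ := Groth.L03.SurfExt.stalk_equiv_of_invertible hO x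
      exact e.symm.injective.moduleIsTorsionFree e.symm (fun r v => map_smul e.symm r v)
    haveI : Module.IsTorsionFree (X.presheaf.stalk x) ((homMod S.X₁ O).presheaf.stalk x) :=
      (Groth.L22.PDual.bijective_stalkHom S.X₁ O hKc x).1.moduleIsTorsionFree _
        (fun r v => map_smul (Groth.L22.PDual.stalkHom S.X₁ O x) r v)
    have hinj : Function.Injective (st (Abelian.image.ι f) x) :=
      (Groth.L21.Mod.mono_iff_stalk_injective (Abelian.image.ι f)).1 inferInstance x
    exact hinj.moduleIsTorsionFree _ (fun r v => map_smul (st (Abelian.image.ι f) x) r v)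
  haveI : Mono (pre' O S.g) := hm
  refine Groth.L29.LocFree.of_iso ?_ hker
  exact (IsLimit.conePointUniqueUpToIso he.fIsKernel (kernelIsKernel f) ≪≫
    kernelIsoOfEq (Abelian.image.fac f).symm ≪≫ kernelCompMono _ _).symm

set_option maxHeartbeats 1600000 in
/-- An extension which is not locally free is induced from a larger ideal. -/
theorem exists_larger [IsIntegral X] (s : Surf X) {k : Type u} [Field k] [X.Over (Spec (CommRingCat.of k))]
    [IsProper (X ↘ Spec (CommRingCat.of k))] {N : ℕ}
    (ι : X ⟶ CohB1.ProjSpace N k) [IsClosedImmersion ι] {M : X.Modules} (hM : PicF.IsInvertible M)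
    {IZ : X.IdealSheafData} (hZ : (IZ.support : Set ↥X).Finite)
    {F : X.Modules} {a : M ⟶ F} {b : F ⟶ ClSub.idealMod IZ} {w : a ≫ b = 0}
    (hex : (ShortComplex.mk a b w).ShortExact) (hnot : ¬ FlatMod.IsFinLocFree F) :
    ∃ (I' : X.IdealSheafData) (F' : X.Modules) (a' : M ⟶ F') (b' : F' ⟶ ClSub.idealMod I') (w' : a' ≫ b' = 0)
      (φ : ClSub.idealMod IZ ⟶ ClSub.idealMod I') (g : F ⟶ F'),
      IZ < I' ∧ (ShortComplex.mk a' b' w').ShortExact ∧ φ ≫ ClSub.idealModι I' = ClSub.idealModι IZ ∧
        a ≫ g = a' ∧ g ≫ b' = b ≫ φ := by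
  let O := Coh.structureModule X
  have hO := Groth.L18.Ample.isInvertible_structureModule X
  have hOc : Coh.IsCoh O := isCoh_structureModule
  haveI : Coh.IsQCoh O := hOc.1
  have hOf : FlatMod.IsFinLocFree O := isFinLocFree_structureModule
  let J := ClSub.idealMod IZ
  let ιJ : J ⟶ O := ClSub.idealModι IZ
  haveI : Mono ιJ := inferInstanceAs (Mono (kernel.ι _))
  haveI : Mono a := hex.mono_f
  haveI : Epi b := hex.epi_g
  have hMc := Groth.L18.Ample.isCoh_of_isInvertible hM
  have hJc : Coh.IsCoh J := isCoh_idealMod IZ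
  have hFc : Coh.IsCoh F := Groth.L17.CohClass.isCoh_of_shortExact _ hex hMc hJc
  -- the dual of the ideal
  have hQc := Groth.L21.RR.isCoh_quotMod IZ
  have hQs := suppClosed_quotMod s hZ
  haveI : IsIso (pre' O ιJ) := isIso_pre (Groth.L21.RR.shortExact_idealSeq IZ) hJc hOc hQc O
    (isZero_E s hQc hQs hOf two_pos) (isZero_E s hQc hQs hOf one_lt_two)
  -- the dual of the extension
  obtain ⟨δ, wδ, hm, he, hδ, -⟩ := exists_exact_pre hex hMc hFc hJc O
  haveI : Mono (pre' O b) := hm
  let f := pre' O a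
  let π := Abelian.factorThruImage f
  let j := Abelian.image.ι f
  have hfac : π ≫ j = f := Abelian.image.fac f
  have wT : pre' O b ≫ π = 0 := (cancel_mono j).1 (by
    rw [Category.assoc, hfac, zero_comp, ← pre'_comp, w, pre'_zero])
  have hT : (ShortComplex.mk (pre' O b) π wT).ShortExact :=
    { exact := (ShortComplex.exact_iff_of_epi_of_isIso_of_mono
        (ShortComplex.Hom.mk (𝟙 _) (𝟙 _) j (by simp) (by simp [hfac]) :
          ShortComplex.mk (pre' O b) π wT ⟶
            ShortComplex.mk (pre' O b) f (by rw [← pre'_comp, w, pre'_zero]))).2 he }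
  have cJ : Coh.IsCoh (homMod J O) := Groth.L16.HomSh.isCoh_homMod hJc hOc
  have cM : Coh.IsCoh (homMod M O) := Groth.L16.HomSh.isCoh_homMod hMc hOc
  have cD : Coh.IsCoh (homMod F O) := Groth.L16.HomSh.isCoh_homMod hFc hOc
  have cC : Coh.IsCoh (cokernel f) := (Groth.L16.CohKernel.isCoh_kernel_cokernel cD cM f).2
  have cK : Coh.IsCoh (Abelian.image f) := (Groth.L16.CohKernel.isCoh_kernel_cokernel cM cC (cokernel.π f)).1
  -- the quotient of the dual of `M` has finite support
  have hCs : SuppClosed (cokernel f) := fun x hx => by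
    refine subsingleton_stalk_cokernel f fun v => ?_
    have hn : x ∉ IZ.support := fun hm => hx (s.fin _ hZ IZ.support.isClosed x hm)
    have hb : Function.Bijective (st ιJ x) :=
      ⟨(Groth.L21.Mod.mono_iff_stalk_injective ιJ).1 inferInstance x, st_idealModι_surjective IZ hn⟩
    haveI := Groth.L18.LFP.free_stalk O hOf x
    haveI : Module.Free (X.presheaf.stalk x) (J.presheaf.stalk x) :=
      Module.Free.of_equiv (LinearEquiv.ofBijective (st ιJ x) hb).symm
    haveI : Subsingleton ((E J O 1).presheaf.stalk x) := by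
      haveI := Groth.L17.Duality.hasSheafHom J
      haveI : HasInjectiveResolutions (ModSite.Mod X.sheaf) := ‹HasInjectiveResolutions X.Modules›
      obtain ⟨e⟩ := Groth.L22.ExtSh.nonempty_extSh_iso J O 1
      obtain ⟨q⟩ := Groth.L22.ExtSh.nonempty_ext_stalk_equiv hJc O x 1
      refine stalk_subsingleton_of_iso e x ?_
      haveI : Projective (ModuleCat.of (X.presheaf.stalk x) (J.presheaf.stalk x)) :=
        (IsProjective.iff_projective _).mp inferInstance
      exact @Equiv.subsingleton _ _ q.symm.toEquiv (Ext.subsingleton_of_projective _ _ 0)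
    have hxs := (Groth.L21.Mod.exact_iff_stalk _).1 hδ x
    exact (ShortComplex.ab_exact_iff _).1 hxs v (Subsingleton.elim (α := (E J O 1).presheaf.stalk x) _ _)
  haveI : IsIso (pre' O j) := isIso_pre
    (S := ShortComplex.mk j (cokernel.π f) (kernel.condition _))
    { exact := ShortComplex.exact_of_f_is_kernel _ (kernelIsKernel (cokernel.π f)) } cK cM cC O
    (isZero_E s cC hCs hOf two_pos) (isZero_E s cC hCs hOf one_lt_two)
  -- dualise again
  obtain ⟨δ', wδ', hm', he', -, -⟩ := exists_exact_pre hT cJ cD cK O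
  haveI : Mono (pre' O π) := hm'
  have hD : FlatMod.IsFinLocFree (homMod F O) := isFinLocFree_dual s ι hFc
  let G := homMod (homMod F O) O
  have hG : FlatMod.IsFinLocFree G := isFinLocFree_homMod hD hO
  haveI := isIso_bd hOf hO
  haveI := isIso_bd (Groth.L20.ResDescent.isFinLocFree_of_isInvertible hM) hO
  haveI : IsIso (pre' O (pre' O ιJ)) :=
    ⟨pre' O (inv (pre' O ιJ)), by rw [← pre'_comp, IsIso.inv_hom_id, pre'_id],
      by rw [← pre'_comp, IsIso.hom_inv_id, pre'_id]⟩
  let t : homMod (homMod J O) O ⟶ O := pre' O (pre' O ιJ) ≫ inv (bd O O)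
  let θ : G ⟶ O := pre' O (pre' O b) ≫ t
  let ρ : M ⟶ G := a ≫ bd F O
  let u : M ⟶ homMod (Abelian.image f) O := bd M O ≫ pre' O j
  have hρ : u ≫ pre' O π = ρ := by
    show (bd M O ≫ pre' O j) ≫ pre' O π = a ≫ bd F O
    rw [Category.assoc, ← pre'_comp, hfac, bd_natural]
  have hθ : bd F O ≫ θ = b ≫ ιJ := by
    show bd F O ≫ pre' O (pre' O b) ≫ pre' O (pre' O ιJ) ≫ inv (bd O O) = _
    rw [reassoc_of% (bd_natural O b), reassoc_of% (bd_natural O ιJ), IsIso.hom_inv_id, Category.comp_id]
  have hρθ : ρ ≫ θ = 0 := by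
    show (a ≫ bd F O) ≫ θ = 0
    rw [Category.assoc, hθ, ← Category.assoc, w, zero_comp]
  let e0 : ShortComplex.mk (pre' O π) (pre' O (pre' O b)) (by rw [← pre'_comp, wT, pre'_zero]) ≅
      ShortComplex.mk ρ θ hρθ :=
    ShortComplex.isoMk (asIso u).symm (Iso.refl _) (asIso t)
      (by
        show inv u ≫ ρ = pre' O π ≫ 𝟙 _
        rw [Category.comp_id, IsIso.inv_comp_eq, hρ])
      (by
        show 𝟙 _ ≫ θ = pre' O (pre' O b) ≫ t
        rw [Category.id_comp])
  have hexθ : (ShortComplex.mk ρ θ hρθ).Exact := ShortComplex.exact_of_iso e0 he'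
  haveI : Mono ρ := hρ ▸ mono_comp _ _
  haveI : Coh.IsQCoh G := (Groth.L16.NegPow.isCoh_of_isFinLocFree hG).1
  obtain ⟨π', hπ', hπι⟩ := exists_img θ
  haveI := hπ'
  let I' := img θ
  let ι' := ClSub.idealModι I'
  haveI : Mono ι' := inferInstanceAs (Mono (kernel.ι _))
  have w' : ρ ≫ π' = 0 := (cancel_mono ι').1 (by rw [Category.assoc, hπι, hρθ, zero_comp])
  have hex' : (ShortComplex.mk ρ π' w').ShortExact :=
    { exact := (ShortComplex.exact_iff_of_epi_of_isIso_of_mono
        (ShortComplex.Hom.mk (𝟙 _) (𝟙 _) ι' (by simp) (by simp [ι', I', hπι]) :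
          ShortComplex.mk ρ π' w' ⟶ ShortComplex.mk ρ θ hρθ)).2 hexθ }
  let φ : J ⟶ ClSub.idealMod I' := hex.exact.desc (bd F O ≫ π') (by rw [← Category.assoc]; exact w')
  have hbφ : b ≫ φ = bd F O ≫ π' := hex.exact.g_desc _ _
  have hφ : φ ≫ ι' = ιJ := (cancel_epi b).1 (by rw [reassoc_of% hbφ, hπι, hθ])
  refine ⟨I', G, ρ, π', w', φ, bd F O, lt_of_le_of_ne (le_of_fac φ hφ) fun heq => hnot ?_, hex', hφ, rfl,
    hbφ.symm⟩
  obtain ⟨ψ, hψ⟩ := exists_fac (I := I') (J := IZ) heq.ge
  haveI : IsIso φ := ⟨ψ, (cancel_mono ιJ).1 (by rw [Category.assoc, hψ, hφ, Category.id_comp]),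
    (cancel_mono ι').1 (by rw [Category.assoc, hφ, hψ, Category.id_comp])⟩
  haveI : IsIso (bd F O) := ShortComplex.isIso₂_of_shortExact_of_isIso₁₃'
    (ShortComplex.Hom.mk (𝟙 M) (bd F O) φ (by simp [ρ]) hbφ.symm :
      ShortComplex.mk a b w ⟶ ShortComplex.mk ρ π' w') hex hex' inferInstance ‹IsIso φ›
  exact Groth.L29.LocFree.of_iso (asIso (bd F O)).symm hG

end Groth.L03.AdjLin
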