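import Groth.Agent.L03.AdjLin.Main
import Groth.Agent.L22.Adjunction.PnOmega
import Groth.Agent.L22.Adjunction.Seq
import Groth.Agent.L22.Adjunction.DetLine
import Groth.Agent.L04.HyperSurf.Main
import Groth.Agent.L12.HypSq.Inter
import Groth.Agent.L14.LocHilb.Push
import Groth.Agent.L11.NumOrth.Proper
import Groth.Agent.L29.DCoh.RpushAffine
import Groth.Agent.L19.IdealInvertible
import Groth.Agent.L03.VBPn.LinSubUntwist

/-!
The canonical module and the degree of a smooth surface in projective three-space.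
-/

set_option autoImplicit false
set_option backward.isDefEq.respectTransparency false
set_option backward.isDefEq.respectTransparency.types false
set_option linter.style.haveILetI false
set_option linter.unusedSectionVars false
universe u

open CategoryTheory CategoryTheory.Limits AlgebraicGeometry TopologicalSpace Opposite

noncomputable section

namespace Groth.L03.AdjLin

open Groth.L00.Tensor (tensorIso tensorAssoc tensorComm tensorUnitRight tensorUnitLeft)
open Groth.L22.Reg (O' tw' nonempty_O_add)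

/-- The zero scheme of a section only depends on the module up to isomorphism. -/
theorem zeroScheme_iso {X : Scheme.{u}} {N M : X.Modules} (φ : N ≅ M) (s : Coh.structureModule X ⟶ N) :
    PicF2.zeroScheme M (s ≫ φ.hom) = PicF2.zeroScheme N s := by
  unfold PicF2.zeroScheme
  congr 1
  funext U
  ext a
  show (∀ m, ∃ b, a • m = b • PicF2.secVal M (s ≫ φ.hom) U.1) ↔ ∀ m, ∃ b, a • m = b • PicF2.secVal N s U.1
  have hv : PicF2.secVal M (s ≫ φ.hom) U.1 = (φ.hom.val.app (op U.1)).hom (PicF2.secVal N s U.1) := rfl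
  have hl : ∀ x, (φ.inv.val.app (op U.1)).hom ((φ.hom.val.app (op U.1)).hom x) = x := fun x =>
    congrArg (fun f : N ⟶ N => (f.val.app (op U.1)).hom x) φ.hom_inv_id
  have hr : ∀ x, (φ.hom.val.app (op U.1)).hom ((φ.inv.val.app (op U.1)).hom x) = x := fun x =>
    congrArg (fun f : M ⟶ M => (f.val.app (op U.1)).hom x) φ.inv_hom_id
  constructor
  · intro h m
    obtain ⟨b, hb⟩ := h ((φ.hom.val.app (op U.1)).hom m)
    refine ⟨b, ?_⟩
    have h2 := congrArg (φ.inv.val.app (op U.1)).hom hb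
    rwa [hv, map_smul, map_smul, hl, hl] at h2
  · intro h m
    obtain ⟨b, hb⟩ := h ((φ.inv.val.app (op U.1)).hom m)
    refine ⟨b, ?_⟩
    have h2 := congrArg (φ.hom.val.app (op U.1)).hom hb
    rwa [map_smul, map_smul, hr, ← hv] at h2

section

variable (k : Type u) [Field k] [IsAlgClosed k] {X : Scheme.{u}} [X.Over (Spec (CommRingCat.of k))]
  [Smooth (X ↘ (Spec (CommRingCat.of k)))] [IsIntegral X]

local notation "P" => CohB1.ProjSpace 3 k

/-- The ideal of a smooth surface in three-space is invertible. -/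
theorem isEffCartier_ker (ι : X ⟶ P) [IsClosedImmersion ι]
    [SmoothOfRelativeDimension 2 (ι ≫ CohB1.ProjSpace.toSpec 3 k)] : BlowUp.IsEffCartierIdeal ι.ker := by
  haveI : SmoothOfRelativeDimension 3 (CohB1.ProjSpace.toSpec 3 k) := inferInstance
  have h := Groth.L22.Adjunction.isRegularImmersionOfCodim (CohB1.ProjSpace.toSpec 3 k) ι 3 2
  intro x
  by_cases hx : x ∈ Set.range ι
  · obtain ⟨z, rfl⟩ := hx
    obtain ⟨U, hzU, -, rs, hlen, hseq, hker⟩ := h.2 z
    obtain ⟨f, rfl⟩ : ∃ f, rs = [f] := List.length_eq_one_iff.1 (by omega)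
    refine ⟨U, hzU, f, ?_, ?_⟩
    · rw [mem_nonZeroDivisors_iff_right]
      intro a ha
      have h2 : IsSMulRegular Γ(P, U.1) f := by
        exact ((RingTheory.Sequence.isWeaklyRegular_cons_iff _ _ _).1 hseq.toIsWeaklyRegular).1
      exact h2 (show f • a = f • (0 : Γ(P, U.1)) by rw [smul_eq_mul, smul_eq_mul, mul_comm, ha, mul_zero])
    · rw [Scheme.Hom.ker_apply, hker, Ideal.ofList_singleton]
  · obtain ⟨V, hV, hxV, hVc⟩ := exists_isAffineOpen_mem_and_subset (x := x)
      (U := (⟨(Set.range ι)ᶜ, ι.isClosedEmbedding.isClosed_range.isOpen_compl⟩ : (P).Opens)) hx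
    refine ⟨⟨V, hV⟩, hxV, 1, one_mem _, ?_⟩
    rw [Ideal.span_singleton_one, Scheme.Hom.ker_apply, eq_top_iff]
    intro a _
    rw [RingHom.mem_ker]
    have hb : ι ⁻¹ᵁ V = ⊥ := by
      ext z
      exact iff_of_false (fun hz => hVc hz ⟨z, rfl⟩) id
    haveI : Subsingleton Γ(X, ι ⁻¹ᵁ V) := by
      rw [hb]
      infer_instance
    exact Subsingleton.elim _ _

/-- A smooth surface in three-space has canonical module `O(d - 4)` where `d` is its degree. -/
theorem exists_degree (hdim : topologicalKrullDim X = 2) (ι : X ⟶ P) [IsClosedImmersion ι]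
    (hι : ι ≫ CohB1.ProjSpace.toSpec 3 k = X ↘ Spec (CommRingCat.of k))
    {ω : X.Modules} (hω : ExtPow.IsExtPow 2 (Omega.sheaf (X ↘ (Spec (CommRingCat.of k)))) ω) :
    ∃ e : ℤ, FGA.intNum k X 2 ![((Scheme.Modules.pullback ι).obj (Twist.twistProjSpace 3 k (-1))),
        ((Scheme.Modules.pullback ι).obj (Twist.twistProjSpace 3 k (-1)))] (Coh.structureModule X) = e ∧
      Nonempty (ω ≅ (Scheme.Modules.pullback ι).obj (Twist.twistProjSpace 3 k (e - 4))) := by
  haveI : IsIntegral (P) := Groth.L16.ProjSpace.isIntegral 3 k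
  haveI := Groth.L22.Reg.isProper_over_proj (k := k) (n := 3)
  haveI : IsLocallyNoetherian (P) := LocallyOfFiniteType.isLocallyNoetherian ((P) ↘ Spec (CommRingCat.of k))
  haveI : IsProper (X ↘ Spec (CommRingCat.of k)) := by
    rw [← hι]
    haveI : IsProper (CohB1.ProjSpace.toSpec 3 k) := inferInstanceAs (IsProper ((P) ↘ Spec (CommRingCat.of k)))
    infer_instance
  haveI := Groth.L21.RR.isNoetherian_of_proper (X := X) k
  haveI := Groth.L00.Tensor.grothendieckAbelian_modules X
  haveI : SmoothOfRelativeDimension 2 (X ↘ Spec (CommRingCat.of k)) :=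
    Groth.L16.SmoothSection.smoothOfRelativeDimension_dim _ 2 (hdim.trans Nat.cast_ofNat.symm)
  haveI : SmoothOfRelativeDimension 2 (ι ≫ CohB1.ProjSpace.toSpec 3 k) := hι.symm ▸ inferInstance
  haveI : SmoothOfRelativeDimension 3 (CohB1.ProjSpace.toSpec 3 k) := inferInstance
  have hIinv : PicF.IsInvertible (ClSub.idealMod ι.ker) :=
    (Groth.Agent.L19.IdealInvertible.isEffCartier_iff _).2 (isEffCartier_ker k ι)
  obtain ⟨a, ⟨φ⟩⟩ := Groth.L20.PnPic.exists_iso_twist (n := 3) (R := k) _ hIinv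
  have hinv : ∀ t, PicF.IsInvertible (O' 3 k t) := fun t => Groth.L16.ProjTwist.isInvertible_twistProjSpace 3 k t
  haveI : (P).IsSeparated :=
    ⟨by rw [← terminal.comp_from ((P) ↘ Spec (CommRingCat.of k))]; infer_instance⟩
  -- Euler characteristics of the twists
  have hχ : ∀ t : ℤ, Curv2.euler k X ((Scheme.Modules.pullback ι).obj (O' 3 k t)) =
      Ring.choose (t + (3 : ℕ)) 3 - Ring.choose (a + t + (3 : ℕ)) 3 := by
    intro t
    haveI : Coh.IsQCoh (Coh.structureModule X) := Groth.L16.CohClosedPush.isCoh_structure.1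
    have h1 := Groth.L11.NumOrth.euler_push_tensor k ι hι (hinv t) (Coh.structureModule X)
      (fun q => Groth.L29.DC.RpushQC.isZero_Rpush_affine ι _ inferInstance (q + 1) q.succ_pos)
    rw [Groth.L03.Euler.euler_iso (k := k) (tensorUnitLeft ((Scheme.Modules.pullback ι).obj (O' 3 k t)))] at h1
    rw [← h1]
    have e : tw' ((Coh.push ι).obj (Coh.structureModule X)) t ≅ tw' (ClSub.quotMod ι.ker) t :=
      tensorIso (asIso (Groth.L14.LocHilb.quotPush ι)).symm (Iso.refl _)
    have h3 := Groth.L03.Euler.euler_iso (k := k) e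
    have h2 := Groth.L04.HyperSurf.euler_tw_add (Groth.L21.RR.shortExact_idealSeq ι.ker)
      (Groth.L21.RR.isCoh_idealMod _) Groth.L16.CohClosedPush.isCoh_structure (Groth.L21.RR.isCoh_quotMod _) t
    obtain ⟨b⟩ := nonempty_O_add (n := 3) (R := k) (rfl : a + t = a + t)
    rw [Groth.L03.Euler.euler_iso (k := k) (tensorUnitLeft (O' 3 k t)),
      Groth.L22.Reg.euler_O (by norm_num) t,
      Groth.L03.Euler.euler_iso (k := k) (tensorIso φ (Iso.refl _) ≪≫ b : tw' (ClSub.idealMod ι.ker) t ≅ O' 3 k (a + t)),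
      Groth.L22.Reg.euler_O (by norm_num) (a + t)] at h2
    replace h2 : Ring.choose (t + ((3 : ℕ) : ℤ)) 3 = Ring.choose (a + t + ((3 : ℕ) : ℤ)) 3 +
        Curv2.euler k (P) (tw' (ClSub.quotMod ι.ker) t) := h2
    change Curv2.euler k (P) (tw' ((Coh.push ι).obj (Coh.structureModule X)) t) = _
    rw [h3]
    omega
  refine ⟨-a, ?_, ?_⟩
  · rw [Groth.L12.HypSq.intNum_two (le_of_eq hdim) _ _]
    obtain ⟨b⟩ := nonempty_O_add (n := 3) (R := k) (show (-1 : ℤ) + -1 = -2 by ring)
    obtain ⟨z⟩ := Groth.L22.Reg.nonempty_O_zero (n := 3) (R := k)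
    rw [Groth.L03.Euler.euler_iso (k := k)
        (Groth.L29.DC.PullTensor.pullTensor ι (O' 3 k (-1)) (O' 3 k (-1)) ≪≫ (Scheme.Modules.pullback ι).mapIso b),
      Groth.L03.Euler.euler_iso (k := k) ((Groth.L29.LocFree.pullbackUnitIso ι).symm ≪≫
        (Scheme.Modules.pullback ι).mapIso z.symm), hχ, hχ, hχ]
    have hp : ∀ x : ℤ, Ring.choose (x + 2) 3 - 2 * Ring.choose (x + 1) 3 + Ring.choose x 3 = x := by
      intro x
      have h1 := Ring.choose_succ_succ (x + 1) 2
      have h2 := Ring.choose_succ_succ x 2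
      have h3 := Ring.choose_succ_succ x 1
      rw [Ring.choose_one_right] at h3
      norm_num at h1 h2 h3
      rw [show x + 1 + 1 = x + 2 by ring] at h1
      linarith
    have hp1 := hp 1
    have hp2 := hp (a + 1)
    push_cast
    ring_nf at hp1 hp2 ⊢
    linarith
  · obtain ⟨ωP, hωP, -⟩ := Groth.L22.Adjunction.exists_isExtPow
      (Groth.L02.Canon.isFinLocFreeOfRank_omega (f := CohB1.ProjSpace.toSpec 3 k) 3)
    obtain ⟨u⟩ := Groth.L22.Adjunction.nonempty_topForms_projSpace (n := 3) (R := k) hωP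
    obtain ⟨v⟩ := Groth.L22.Adjunction.nonempty_topForms_iso (CohB1.ProjSpace.toSpec 3 k) ι 3 2 (by norm_num)
      hωP (ωX := ω) (hι.symm ▸ hω) (L := Omega.conormal ι) (Groth.L03.VBPn.isExtPow_one_self _)
    obtain ⟨b⟩ := nonempty_O_add (n := 3) (R := k) (show -a + -((3 : ℕ) + 1 : ℤ) = -a - 4 by push_cast; ring)
    obtain ⟨c⟩ := nonempty_O_add (n := 3) (R := k) (show -a + a = 0 by ring)
    obtain ⟨z⟩ := Groth.L22.Reg.nonempty_O_zero (n := 3) (R := k)
    let pt (A B : (P).Modules) := Groth.L29.DC.PullTensor.pullTensor ι A B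
    exact ⟨(tensorUnitLeft ω).symm ≪≫
      tensorIso ((Groth.L29.LocFree.pullbackUnitIso ι).symm ≪≫
        (Scheme.Modules.pullback ι).mapIso (z.symm ≪≫ c.symm) ≪≫ (pt _ _).symm) (Iso.refl ω) ≪≫
      tensorAssoc _ _ _ ≪≫
      tensorIso (Iso.refl _) (tensorIso ((Scheme.Modules.pullback ι).mapIso φ).symm (Iso.refl ω) ≪≫ v.symm ≪≫
        (Scheme.Modules.pullback ι).mapIso u) ≪≫
      pt _ _ ≪≫ (Scheme.Modules.pullback ι).mapIso b⟩

end

end Groth.L03.AdjLin
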