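import Groth.Agent.L03.BlowPt.QuotSeq
import Groth.Agent.L21.RR.PointPow
import Groth.Agent.L18.IdealModule
import Groth.Agent.L16.QCohSections
import Groth.Agent.L16.HomSh.Adjunction

/-!
The image of a map to the structure sheaf, as a quasi-coherent ideal.
-/

set_option autoImplicit false
set_option backward.isDefEq.respectTransparency false
set_option linter.style.haveILetI false
universe u

open CategoryTheory CategoryTheory.Limits AlgebraicGeometry TopologicalSpace Opposite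

noncomputable section

namespace Groth.L03.AdjLin

open Groth.L18.Frame (rs ro rs_rs rs_smul)
open Groth.L21.RR (st st_germ one)
open Groth.L03.BlowPt.QuotSeq (st_comp st_zero st_toSubscheme_eq_zero_iff)

variable {X : Scheme.{u}} {G : X.Modules}

/-- The sections in the image. -/
def imgOn (θ : G ⟶ Coh.structureModule X) (U : X.Opens) : Ideal Γ(X, U) where
  carrier := {a | ∃ m : Γ(G, U), (show Γ(X, U) from θ.app U m) = a}
  add_mem' := by
    rintro _ _ ⟨m, rfl⟩ ⟨n, rfl⟩
    exact ⟨m + n, map_add (θ.app U).hom m n⟩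
  zero_mem' := ⟨0, map_zero (θ.app U).hom⟩
  smul_mem' := by
    rintro c _ ⟨m, rfl⟩
    exact ⟨c • m, Scheme.Modules.Hom.app_smul θ c m⟩

theorem map_imgOn [Coh.IsQCoh G] (θ : G ⟶ Coh.structureModule X) {U : X.Opens} (hU : IsAffineOpen U)
    (f : Γ(X, U)) :
    (imgOn θ U).map (X.presheaf.map (homOfLE (X.basicOpen_le f)).op).hom = imgOn θ (X.basicOpen f) := by
  have hle : X.basicOpen f ≤ U := X.basicOpen_le f
  refine le_antisymm (Ideal.map_le_iff_le_comap.2 ?_) ?_
  · rintro _ ⟨m, rfl⟩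
    exact ⟨rs G hle m, Groth.L16.HomSh.hom_app_rs θ hle m⟩
  · rintro _ ⟨m', rfl⟩
    obtain ⟨n, t, ht⟩ := Groth.L16.QCohSect.exists_pow_smul_eq_res hU G f m'
    have hu : IsUnit (ro hle (f ^ n)) := by
      show IsUnit (X.presheaf.map (homOfLE hle).op (f ^ n))
      rw [map_pow]
      exact (X.toRingedSpace.isUnit_res_basicOpen f).pow n
    refine (Ideal.unit_mul_mem_iff_mem _ hu).1 ?_
    have h1 : ro hle (f ^ n) * (show Γ(X, X.basicOpen f) from θ.app (X.basicOpen f) m') =
        ro hle (show Γ(X, U) from θ.app U t) := by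
      refine (Scheme.Modules.Hom.app_smul θ (ro hle (f ^ n)) m').symm.trans ?_
      rw [← ht]
      exact Groth.L16.HomSh.hom_app_rs θ hle t
    rw [h1]
    exact Ideal.mem_map_of_mem _ ⟨t, rfl⟩

/-- The image ideal. -/
def img [Coh.IsQCoh G] (θ : G ⟶ Coh.structureModule X) : X.IdealSheafData where
  ideal U := imgOn θ U.1
  map_ideal_basicOpen U f := map_imgOn θ U.2 f

theorem st_mem_img [Coh.IsQCoh G] (θ : G ⟶ Coh.structureModule X) {x : X} {V : X.Opens} (hV : IsAffineOpen V)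
    (hxV : x ∈ V) (v : G.presheaf.stalk x) :
    ∃ r ∈ ((img θ).ideal ⟨V, hV⟩).map (X.presheaf.germ V x hxV).hom, r • one X x = st θ x v := by
  obtain ⟨W, hxW, n, rfl⟩ := TopCat.Presheaf.exists_germ_eq (F := G.presheaf) (x := x) v
  obtain ⟨V', hV', hxV', hV'W⟩ := exists_isAffineOpen_mem_and_subset (x := x) (U := W ⊓ V) ⟨hxW, hxV⟩
  have hW : V' ≤ W := fun z hz => (hV'W hz).1
  have hle : V' ≤ V := fun z hz => (hV'W hz).2
  let n' := rs G hW n
  refine ⟨X.presheaf.germ V' x hxV' (show Γ(X, V') from θ.app V' n'), ?_, ?_⟩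
  · have h1 : X.presheaf.germ V' x hxV' (show Γ(X, V') from θ.app V' n') ∈
        ((img θ).ideal ⟨V', hV'⟩).map (X.presheaf.germ V' x hxV').hom := Ideal.mem_map_of_mem _ ⟨n', rfl⟩
    rw [← (img θ).map_ideal (U := ⟨V', hV'⟩) (V := ⟨V, hV⟩) hle, Ideal.map_map] at h1
    convert h1 using 3
    ext a
    exact (X.presheaf.germ_res_apply _ _ _ _).symm
  · rw [← Groth.L21.RR.germ_eq_smul_one hxV', ← Groth.L20.ModStalk.germ_rs G hW hxV' n, st_germ]

theorem comp_toSubscheme_img [Coh.IsQCoh G] (θ : G ⟶ Coh.structureModule X) :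
    θ ≫ ClSub.toSubscheme (img θ) = 0 := by
  refine Groth.L21.Mod.hom_ext_stalk fun x => ?_
  obtain ⟨V, hV, hxV, -⟩ := exists_isAffineOpen_mem_and_subset (x := x) (U := ⊤) trivial
  ext v
  rw [Functor.map_zero]
  change st (θ ≫ ClSub.toSubscheme (img θ)) x v = 0
  obtain ⟨r, hr, he⟩ := st_mem_img θ hV hxV v
  rw [st_comp, ← he, st_toSubscheme_eq_zero_iff (img θ) hV hxV]
  exact hr

/-- A map to the structure sheaf factors through its image ideal by an epimorphism. -/
theorem exists_img (θ : G ⟶ Coh.structureModule X) [Coh.IsQCoh G] :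
    ∃ π : G ⟶ ClSub.idealMod (img θ), Epi π ∧ π ≫ ClSub.idealModι (img θ) = θ := by
  refine ⟨kernel.lift _ θ (comp_toSubscheme_img θ), ?_, kernel.lift_ι _ _ _⟩
  refine (Groth.L21.Mod.epi_iff_stalk_surjective _).2 fun x => ?_
  intro u
  obtain ⟨V, hV, hxV, -⟩ := exists_isAffineOpen_mem_and_subset (x := x) (U := ⊤) trivial
  obtain ⟨r, hr, he⟩ := (Groth.L21.RR.range_st_idealModι (img θ) hV hxV _).1 ⟨u, rfl⟩
  have hmem : (((img θ).ideal ⟨V, hV⟩).map (X.presheaf.germ V x hxV).hom) ≤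
      (LinearMap.range (st θ x)).comap
        (LinearMap.toSpanSingleton (X.presheaf.stalk x) ((Coh.structureModule X).presheaf.stalk x) (one X x)) := by
    refine Ideal.map_le_iff_le_comap.2 ?_
    rintro _ ⟨m, rfl⟩
    refine ⟨G.presheaf.germ V x hxV m, ?_⟩
    rw [st_germ, LinearMap.toSpanSingleton_apply, ← Groth.L21.RR.germ_eq_smul_one hxV]
  obtain ⟨w, hw⟩ := hmem hr
  haveI : Mono (ClSub.idealModι (img θ)) := inferInstanceAs (Mono (kernel.ι _))
  refine ⟨w, (Groth.L21.Mod.mono_iff_stalk_injective (ClSub.idealModι (img θ))).1 inferInstance x ?_⟩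
  change st (ClSub.idealModι (img θ)) x (st (kernel.lift _ θ (comp_toSubscheme_img θ)) x w) =
    st (ClSub.idealModι (img θ)) x u
  refine Eq.trans ?_ he
  refine (st_comp (kernel.lift (ClSub.toSubscheme (img θ)) θ (comp_toSubscheme_img θ)) (ClSub.idealModι (img θ)) x w).symm.trans ?_
  refine Eq.trans ?_ hw
  exact congrArg (fun q => st q x w) (kernel.lift_ι _ _ _)

/-- An inclusion of ideal modules comes from an inclusion of ideals. -/
theorem le_of_fac {I J : X.IdealSheafData} (φ : ClSub.idealMod I ⟶ ClSub.idealMod J)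
    (h : φ ≫ ClSub.idealModι J = ClSub.idealModι I) : I ≤ J := fun V a ha => by
  obtain ⟨m, rfl⟩ := (Groth.L18.IdealModule.mem_ideal_iff I V.2 a).1 ha
  exact (Groth.L18.IdealModule.mem_ideal_iff J V.2 _).2 ⟨φ.app V.1 m, by rw [← h]; rfl⟩

/-- An inclusion of ideals gives an inclusion of ideal modules. -/
theorem exists_fac {I J : X.IdealSheafData} (h : I ≤ J) :
    ∃ φ : ClSub.idealMod I ⟶ ClSub.idealMod J, φ ≫ ClSub.idealModι J = ClSub.idealModι I :=
  ⟨kernel.lift _ (ClSub.idealModι I) (Groth.L03.BlowPt.QuotSeq.idealModι_toSubscheme h), kernel.lift_ι _ _ _⟩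

theorem eq_of_isIso_fac {I J : X.IdealSheafData} (φ : ClSub.idealMod I ⟶ ClSub.idealMod J) [IsIso φ]
    (h : φ ≫ ClSub.idealModι J = ClSub.idealModι I) : I = J :=
  le_antisymm (le_of_fac φ h) (le_of_fac (inv φ) (by rw [IsIso.inv_comp_eq, h]))

theorem mono_fac {I J : X.IdealSheafData} (φ : ClSub.idealMod I ⟶ ClSub.idealMod J)
    (h : φ ≫ ClSub.idealModι J = ClSub.idealModι I) : Mono φ :=
  haveI : Mono (φ ≫ ClSub.idealModι J) := h.symm ▸ inferInstanceAs (Mono (kernel.ι _))
  mono_of_mono φ (ClSub.idealModι J)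

end Groth.L03.AdjLin
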