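import Groth.Agent.L03.AdjLin.Duality
import Groth.Agent.L03.SurfAdj.Embed
import Groth.Agent.L03.SurfExt.Curve
import Groth.Agent.L16.SecComp.Smooth
import Groth.Agent.L22.CurveDeg.ZeroDim
import Groth.Agent.L18.KRRAmple

/-!
The Cayley–Bacharach correspondence on a smooth projective surface.
-/

set_option autoImplicit false
set_option backward.isDefEq.respectTransparency false
set_option linter.style.haveILetI false
universe u

open CategoryTheory CategoryTheory.Limits CategoryTheory.Abelian AlgebraicGeometry TopologicalSpace Opposite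

noncomputable section

namespace Groth.L03.AdjLin

open Groth.L00.Tensor (tensorIso tensorComm tensorAssoc tensorUnitLeft tensorUnitRight)
open Groth.L21.RR (st)

variable {X : Scheme.{u}}

theorem finrank_stalk {n : ℕ} {E : X.Modules} (hE : FlatMod.IsFinLocFreeOfRank n E) (x : X) :
    Module.finrank (X.presheaf.stalk x) (E.presheaf.stalk x) = n := by
  obtain ⟨e⟩ := Groth.L22.CurveDeg.nonempty_stalk_equiv hE x
  rw [← e.finrank_eq, Module.finrank_fin_fun]

/-- An extension of an ideal with finite cosupport by an invertible module has rank two. -/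
theorem isFinLocFreeOfRank_two [IsIntegral X] (s : Surf X) {A B E : X.Modules} (hA : PicF.IsInvertible A)
    {IP : X.IdealSheafData} (hfin : (IP.support : Set ↥X).Finite) {L : X.Modules} (hL : PicF.IsInvertible L)
    (eB : B ≅ CohB1.tensorMod L (ClSub.idealMod IP)) {i : A ⟶ E} {p : E ⟶ B} {w : i ≫ p = 0}
    (hS : (ShortComplex.mk i p w).ShortExact) (hE : FlatMod.IsFinLocFree E) :
    FlatMod.IsFinLocFreeOfRank 2 E := by
  obtain ⟨r, hr⟩ := Groth.L18.KRRAmple.exists_rank hE
  let η := genericPoint ↥X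
  have hη : η ∉ IP.support := fun h => by
    have hd := s.dimc η (s.fin _ hfin IP.support.isClosed η h)
    rw [ringKrullDim_eq_zero_of_isField (Field.toIsField X.functionField)] at hd
    exact absurd hd (by decide)
  let R := X.presheaf.stalk η
  have hA1 : Module.finrank R (A.presheaf.stalk η) = 1 :=
    finrank_stalk (Groth.L12.FinCov.isFinLocFreeOfRank_one_of_isInvertible hA) η
  haveI : Mono (ClSub.idealModι IP) := inferInstanceAs (Mono (kernel.ι _))
  obtain ⟨e, he⟩ := Groth.L21.RR.exists_frame_stalk hL η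
  let qB : B.presheaf.stalk η ≃ₗ[R] R :=
    (((Groth.L00.Stk.F X η).mapIso eB).toLinearEquiv.trans
      (Groth.L21.RR.tensorStalkEquiv (ClSub.idealMod IP) he)).trans
    ((LinearEquiv.ofBijective (st (ClSub.idealModι IP) η)
      ⟨(Groth.L21.Mod.mono_iff_stalk_injective (ClSub.idealModι IP)).1 inferInstance η,
        st_idealModι_surjective IP hη⟩).trans (Groth.L15.Ref.strE η).symm)
  have hx := hS.map_of_exact (Groth.L00.Stk.F X η)
  let f : A.presheaf.stalk η →ₗ[R] E.presheaf.stalk η := st i η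
  let g : E.presheaf.stalk η →ₗ[R] R := qB.toLinearMap.comp (st p η)
  have hf : Function.Injective f :=
    (Groth.L21.Mod.mono_iff_stalk_injective i).1 hS.mono_f η
  have hgs : Function.Surjective g :=
    qB.surjective.comp ((Groth.L21.Mod.epi_iff_stalk_surjective p).1 hS.epi_g η)
  have hker : ∀ v, g v = 0 → ∃ a, f a = v := fun v hv =>
    (ShortComplex.ab_exact_iff _).1 ((Groth.L21.Mod.exact_iff_stalk _).1 hS.exact η) v
      (qB.injective (hv.trans (map_zero qB).symm))
  have hgf : ∀ a, g (f a) = 0 := fun a => by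
    show qB (st p η (st i η a)) = 0
    rw [← Groth.L03.BlowPt.QuotSeq.st_comp, w, Groth.L03.BlowPt.QuotSeq.st_zero, map_zero]
  obtain ⟨v, hv⟩ := hgs 1
  let q : (A.presheaf.stalk η × R) →ₗ[R] E.presheaf.stalk η := f.coprod (LinearMap.toSpanSingleton R _ v)
  have hq : Function.Bijective q := by
    refine ⟨(injective_iff_map_eq_zero q).2 ?_, fun u => ?_⟩
    · rintro ⟨a, c⟩ h
      change f a + c • v = 0 at h
      have h1 := congrArg g h
      rw [map_add, map_zero, hgf, zero_add, map_smul, hv, smul_eq_mul, mul_one] at h1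
      subst h1
      rw [zero_smul, add_zero] at h
      rw [hf (h.trans (map_zero f).symm)]
      rfl
    · obtain ⟨a, ha⟩ := hker (u - g u • v) (by rw [map_sub, map_smul, hv, smul_eq_mul, mul_one, sub_self])
      exact ⟨(a, g u), by show f a + g u • v = u; rw [ha, sub_add_cancel]⟩
  obtain ⟨ε, hε⟩ := Groth.L21.RR.exists_frame_stalk hA η
  haveI : Module.Finite R (A.presheaf.stalk η) :=
    Module.Finite.equiv (LinearEquiv.ofBijective (LinearMap.toSpanSingleton R _ ε) hε)
  haveI : Module.Free R (A.presheaf.stalk η) :=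
    Module.Free.of_equiv (LinearEquiv.ofBijective (LinearMap.toSpanSingleton R _ ε) hε)
  have h2 := (LinearEquiv.ofBijective q hq).finrank_eq
  rw [Module.finrank_prod, hA1, Module.finrank_self, finrank_stalk hr η] at h2
  obtain rfl : r = 2 := h2.symm
  exact hr

/-- Twisting turns extensions of the twisted ideal into extensions of the ideal. -/
theorem twist_iff [IsIntegral X] (s : Surf X) {U L Linv : X.Modules} (hU : PicF.IsInvertible U)
    {IP : X.IdealSheafData} (hfin : (IP.support : Set ↥X).Finite) (hL : PicF.IsInvertible L)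
    (hLinv : Nonempty (CohB1.tensorMod L Linv ≅ Coh.structureModule X)) :
    (∃ (E : X.Modules) (i : U ⟶ E) (p : E ⟶ CohB1.tensorMod L (ClSub.idealMod IP)) (w : i ≫ p = 0),
        FlatMod.IsFinLocFreeOfRank 2 E ∧ (ShortComplex.mk i p w).ShortExact) ↔
      ∃ (F : X.Modules) (a : CohB1.tensorMod Linv U ⟶ F) (b : F ⟶ ClSub.idealMod IP) (w : a ≫ b = 0),
        (ShortComplex.mk a b w).ShortExact ∧ FlatMod.IsFinLocFree F := by
  obtain ⟨eL⟩ := hLinv
  have hLi : PicF.IsInvertible Linv := Groth.L16.NegPow.isInvertible_inverse hL eL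
  constructor
  · rintro ⟨E, i, p, w, hE, hS⟩
    let T := (DCoh.tensorBi (X := X)).obj Linv
    haveI : T.IsEquivalence := isEquivalence_tensorLeft (tensorComm Linv L ≪≫ eL)
    have hTS := hS.map_of_exact T
    let eJ : T.obj (CohB1.tensorMod L (ClSub.idealMod IP)) ≅ ClSub.idealMod IP :=
      (tensorAssoc _ _ _).symm ≪≫ tensorIso (tensorComm Linv L ≪≫ eL) (Iso.refl _) ≪≫ tensorUnitLeft _
    have w' : T.map i ≫ T.map p ≫ eJ.hom = 0 := by
      rw [← Category.assoc, ← T.map_comp, w, T.map_zero, zero_comp]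
    let e0 : (ShortComplex.mk i p w).map T ≅ ShortComplex.mk (T.map i) (T.map p ≫ eJ.hom) w' :=
      ShortComplex.isoMk (Iso.refl _) (Iso.refl _) eJ
        ((Category.id_comp _).trans (Category.comp_id _).symm) (Category.id_comp _)
    refine ⟨T.obj E, T.map i, T.map p ≫ eJ.hom, w', ShortComplex.shortExact_of_iso e0 hTS, ?_⟩
    exact Groth.L29.LocFree.of_iso (tensorComm E Linv ≪≫ Iso.refl (T.obj E))
      (Groth.L29.DC.isFinLocFree_tensor
        (fun x => by obtain ⟨V, hxV, hV⟩ := hE x; exact ⟨V, 2, hxV, hV⟩)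
        (Groth.L20.ResDescent.isFinLocFree_of_isInvertible hLi))
  · rintro ⟨F, a, b, w, hS, hF⟩
    let T := (DCoh.tensorBi (X := X)).obj L
    haveI : T.IsEquivalence := isEquivalence_tensorLeft eL
    have hTS := hS.map_of_exact T
    let eUM : T.obj (CohB1.tensorMod Linv U) ≅ U :=
      (tensorAssoc _ _ _).symm ≪≫ tensorIso eL (Iso.refl _) ≪≫ tensorUnitLeft _
    have w' : (eUM.inv ≫ T.map a) ≫ T.map b = 0 := by
      rw [Category.assoc, ← T.map_comp, w, T.map_zero, comp_zero]
    let e0 : (ShortComplex.mk a b w).map T ≅ ShortComplex.mk (eUM.inv ≫ T.map a) (T.map b) w' :=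
      ShortComplex.isoMk eUM (Iso.refl _) (Iso.refl _)
        ((eUM.hom_inv_id_assoc _).trans (Category.comp_id _).symm)
        ((Category.id_comp _).trans (Category.comp_id _).symm)
    have hS' := ShortComplex.shortExact_of_iso e0 hTS
    have hEf : FlatMod.IsFinLocFree (T.obj F) :=
      Groth.L29.LocFree.of_iso (tensorComm F L ≪≫ Iso.refl (T.obj F))
        (Groth.L29.DC.isFinLocFree_tensor hF (Groth.L20.ResDescent.isFinLocFree_of_isInvertible hL))
    exact ⟨T.obj F, _, _, w', isFinLocFreeOfRank_two s hU hfin hL (Iso.refl _) hS' hEf, hS'⟩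

variable (k : Type u) [Field k] [IsAlgClosed k] [X.Over (Spec (CommRingCat.of k))]
  [IsProper (X ↘ Spec (CommRingCat.of k))] [Smooth (X ↘ Spec (CommRingCat.of k))] [IrreducibleSpace X]

/-- The Cayley–Bacharach correspondence for finite local complete intersections. -/
theorem cayleyBacharach (hdim : topologicalKrullDim X = 2) {n : ℕ} (ι : X ⟶ CohB1.ProjSpace n k)
    [IsClosedImmersion ι] (hι : ι ≫ CohB1.ProjSpace.toSpec n k = X ↘ Spec (CommRingCat.of k))
    {ω : X.Modules} (hω : ExtPow.IsExtPow 2 (Omega.sheaf (X ↘ (Spec (CommRingCat.of k)))) ω)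
    {U Uinv L : X.Modules} (hU : PicF.IsInvertible U) (hUinv : ClSub.IsInverseOf Uinv U)
    (hL : PicF.IsInvertible L) (IP : X.IdealSheafData) (hfin : (IP.support : Set X).Finite)
    (hlci : ∀ x : X, ∃ V : X.affineOpens, x ∈ (V : X.Opens) ∧ ∃ a b : Γ(X, V), IP.ideal V = Ideal.span {a, b}) :
    (∃ (E : X.Modules) (i : U ⟶ E) (p : E ⟶ CohB1.tensorMod L (ClSub.idealMod IP)) (w : i ≫ p = 0),
        FlatMod.IsFinLocFreeOfRank 2 E ∧ (ShortComplex.mk i p w).ShortExact) ↔
      (∀ I' : X.IdealSheafData, IP ⋖ I' →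
        ∀ σ : Coh.structureModule X ⟶ CohB1.tensorMod (CohB1.tensorMod L Uinv) ω,
          PicF2.zeroScheme (CohB1.tensorMod (CohB1.tensorMod L Uinv) ω) σ ≤ I' →
            PicF2.zeroScheme (CohB1.tensorMod (CohB1.tensorMod L Uinv) ω) σ ≤ IP) := by
  haveI : IsReduced X := Groth.L16.SecComp.isReduced_of_smooth (X ↘ Spec (CommRingCat.of k))
  haveI : IsIntegral X := isIntegral_of_irreducibleSpace_of_isReduced X
  haveI := Groth.L21.RR.isNoetherian_of_proper (X := X) k
  haveI := Groth.L00.Tensor.grothendieckAbelian_modules X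
  have s := surf_of_smooth k hdim
  obtain ⟨hωi, t, ht⟩ := Groth.L03.SurfExt.exists_dualizing_topDiff k hdim s.reg ⟨n, ι, inferInstance, hι⟩ hω
  obtain ⟨eU⟩ := hUinv
  obtain ⟨Linv, hLi, ⟨eL⟩⟩ := Groth.L08.Cube.exists_inverse hL
  let M := CohB1.tensorMod Linv U
  have hM : PicF.IsInvertible M := Groth.L18.GenLoc.isInvertible_tensor hLi hU
  let N := CohB1.tensorMod (CohB1.tensorMod L Uinv) ω
  have hUi : PicF.IsInvertible Uinv :=
    Groth.L16.NegPow.isInvertible_inverse hU (tensorComm U Uinv ≪≫ eU)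
  have hN : PicF.IsInvertible N :=
    Groth.L18.GenLoc.isInvertible_tensor (Groth.L18.GenLoc.isInvertible_tensor hL hUi) hωi
  let eNM : CohB1.tensorMod N M ≅ ω :=
    tensorComm N M ≪≫ (tensorAssoc M (CohB1.tensorMod L Uinv) ω).symm ≪≫
      tensorIso ((tensorAssoc M L Uinv).symm ≪≫
        tensorIso (tensorComm M L ≪≫ (tensorAssoc L Linv U).symm ≪≫ tensorIso eL (Iso.refl U) ≪≫ tensorUnitLeft U)
          (Iso.refl Uinv) ≪≫ tensorComm U Uinv ≪≫ eU) (Iso.refl ω) ≪≫ tensorUnitLeft ω
  refine (twist_iff s hU hfin hL ⟨eL⟩).trans ?_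
  refine (exists_bundle_iff IP s hfin hlci (k := k) ι hM).trans ⟨fun h I' hcov => ?_, fun h I' hcov φ hφ => ?_⟩
  · obtain ⟨φ, hφ⟩ := exists_fac hcov.le
    exact (not_surjective_iff_cb s ι hωi ht hN eNM IP hfin hlci hcov φ hφ).1 (h I' hcov φ hφ)
  · exact (not_surjective_iff_cb s ι hωi ht hN eNM IP hfin hlci hcov φ hφ).2 (h I' hcov)

end Groth.L03.AdjLin
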