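import Groth.Agent.L03.AdjLin.ZeroFac
import Groth.Agent.L03.AdjLin.Cover
import Groth.Agent.L21.RR.Mul
import Groth.Agent.L21.RR.Finite
import Groth.Agent.L17.Strat.Euler
import Mathlib.Algebra.Module.Submodule.Union

/-!
The ranks of two evaluations on a finite subscheme with the Cayley–Bacharach property.
-/

set_option autoImplicit false
set_option backward.isDefEq.respectTransparency false
set_option linter.style.haveILetI false
set_option linter.unusedSectionVars false
universe u v

open CategoryTheory CategoryTheory.Limits AlgebraicGeometry TopologicalSpace Opposite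
open IsLocalRing (maximalIdeal)

noncomputable section

namespace Groth.L03.AdjLin

/-- Two subspaces orthogonal for a nondegenerate functional on a finite algebra. -/
theorem finrank_add_le_of_nondeg {k : Type u} [Field k] {A : Type v} [CommRing A] [Algebra k A] [Module.Finite k A]
    (W₁ W₂ : Submodule k A) (φ : Module.Dual k A) (h : ∀ a ∈ W₁, ∀ b ∈ W₂, φ (a * b) = 0)
    (nd : ∀ a : A, a ≠ 0 → ∃ b, φ (a * b) ≠ 0) :
    Module.finrank k W₁ + Module.finrank k W₂ ≤ Module.finrank k A := by
  let T : W₁ →ₗ[k] Module.Dual k (A ⧸ W₂) :=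
    { toFun := fun a => W₂.liftQ (φ ∘ₗ LinearMap.mul k A a.1) fun b hb => h a.1 a.2 b hb
      map_add' := fun a b => by
        ext c
        simp
      map_smul' := fun r a => by
        ext c
        simp }
  have hT : Function.Injective T := by
    refine (injective_iff_map_eq_zero T).2 fun a ha => ?_
    by_contra hne
    obtain ⟨b, hb⟩ := nd a.1 fun h0 => hne (Subtype.ext h0)
    exact hb (LinearMap.congr_fun ha (Submodule.Quotient.mk b))
  have h1 := LinearMap.finrank_le_finrank_of_injective hT
  rw [Subspace.dual_finrank_eq] at h1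
  have h2 := W₂.finrank_quotient_add_finrank
  omega

open Groth.L21.RR (st st_germ one oneSec twι e0 e0_hmap e0_smul exists_hom_of_hh0 mulS hk SuppClosed)
open Groth.L16.CohLinear (hmap)
open Groth.L21.CurveAdj (stI stI_eq_map quotMap quotMap_surjective ker_quotMap)
open Groth.L18.Frame (rs rs_self IsFrame)
open Groth.L18.GenLoc (secOf tens isFrame_tens)

variable {X : Scheme.{u}}

/-- The zero scheme at a point is cut out by the coefficient. -/
theorem stI_zeroScheme {N : X.Modules} (hN : PicF.IsInvertible N) (σ : Coh.structureModule X ⟶ N) {x : X}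
    {e : N.presheaf.stalk x} (he : Function.Bijective fun a : X.presheaf.stalk x => a • e) {c : X.presheaf.stalk x}
    (hc : c • e = st σ x (one X x)) : stI (PicF2.zeroScheme N σ) x = Ideal.span {c} := by
  obtain ⟨W, d, hxW, hd⟩ := Groth.L18.Frame.exists_frame hN x
  obtain ⟨V, hV, hxV, hVW⟩ := exists_isAffineOpen_mem_and_subset (x := x) (U := W) hxW
  have hd' := hd.mono (show V ≤ W from hVW)
  obtain ⟨a, ha⟩ := hd'.exists_coeff le_rfl (rs N le_top (secOf σ))
  rw [rs_self] at ha
  have hbij := Groth.L21.RR.bijective_germ_frame hd' hxV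
  set g := N.presheaf.germ V x hxV (rs N (show V ≤ W from hVW) d) with hg
  have hσ : st σ x (one X x) = X.presheaf.germ V x hxV a • g := by
    rw [show one X x = (Coh.structureModule X).presheaf.germ ⊤ x trivial (oneSec X) from rfl, st_germ, hg,
      ← Groth.L20.ModStalk.germ_smul, ha, Groth.L20.ModStalk.germ_rs]
    rfl
  rw [stI_eq_map _ hV hxV, Groth.L21.Mero.zeroScheme_ideal_frame hN σ ⟨V, hV⟩ hd' ha, Ideal.map_span,
    Set.image_singleton]
  obtain ⟨u, hu⟩ := hbij.2 e
  obtain ⟨w, hw⟩ := he.2 g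
  have h1 : u * w = 1 := hbij.1 (by
    show (u * w) • g = (1 : X.presheaf.stalk x) • g
    rw [one_smul, mul_comm, mul_smul, show u • g = e from hu]
    exact hw)
  have h2 : c * u = X.presheaf.germ V x hxV a := hbij.1 (by
    show (c * u) • g = X.presheaf.germ V x hxV a • g
    rw [mul_smul, show u • g = e from hu, hc, hσ])
  change Ideal.span {X.presheaf.germ V x hxV a} = _
  rw [← h2]
  exact Ideal.span_singleton_mul_right_unit (IsUnit.of_mul_eq_one w h1) c

variable (k : Type u) [Field k] [X.Over (Spec (CommRingCat.of k))]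

/-- The scalars in a stalk. -/
def kst (x : X) : k →+* X.presheaf.stalk x :=
  (X.presheaf.germ ⊤ x trivial).hom.comp
    { toFun := fun c => show Γ(X, ⊤) from Coh.toGlobal (X ↘ Spec (CommRingCat.of k)) c
      map_one' := map_one (Coh.toGlobal (X ↘ Spec (CommRingCat.of k)))
      map_mul' := map_mul (Coh.toGlobal (X ↘ Spec (CommRingCat.of k)))
      map_zero' := map_zero (Coh.toGlobal (X ↘ Spec (CommRingCat.of k)))
      map_add' := map_add (Coh.toGlobal (X ↘ Spec (CommRingCat.of k))) }

variable (IP : X.IdealSheafData)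

/-- The functions on a finite subscheme, point by point. -/
abbrev Art : Type u :=
  (z : {z : X // z ∈ IP.support}) → X.presheaf.stalk z.1 ⧸ stI IP z.1

@[reducible] def artAlgebra : Algebra k (Art IP) :=
  (RingHom.pi fun z : {z : X // z ∈ IP.support} => (Ideal.Quotient.mk (stI IP z.1)).comp (kst k z.1)).toAlgebra

attribute [local instance] artAlgebra

theorem art_smul (c : k) (v : Art IP) (z : {z : X // z ∈ IP.support}) :
    (c • v) z = Ideal.Quotient.mk (stI IP z.1) (kst k z.1 c) * v z := rfl

section Eval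

variable {N : X.Modules} (e : ∀ z : {z : X // z ∈ IP.support}, N.presheaf.stalk z.1)
  (he : ∀ z, Function.Bijective fun a : X.presheaf.stalk z.1 => a • e z)

/-- The coefficient of a global section at a point. -/
def coef (x : Coh.HH X N 0) (z : {z : X // z ∈ IP.support}) : X.presheaf.stalk z.1 :=
  ((he z).2 (N.presheaf.germ ⊤ z.1 trivial (e0 N x))).choose

theorem coef_spec (x : Coh.HH X N 0) (z : {z : X // z ∈ IP.support}) :
    coef IP e he x z • e z = N.presheaf.germ ⊤ z.1 trivial (e0 N x) :=
  ((he z).2 (N.presheaf.germ ⊤ z.1 trivial (e0 N x))).choose_spec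

/-- The evaluation of sections on the subscheme. -/
def evalArt : Coh.HH X N 0 →ₗ[k] Art IP where
  toFun x z := Ideal.Quotient.mk _ (coef IP e he x z)
  map_add' x y := funext fun z => by
    refine Eq.trans ?_ (map_add (Ideal.Quotient.mk _) _ _)
    refine congrArg _ ((he z).1 ?_)
    show _ • e z = (_ + _) • e z
    rw [add_smul, coef_spec, coef_spec, coef_spec, map_add, map_add]
  map_smul' c x := funext fun z => by
    rw [RingHom.id_apply, art_smul]
    refine Eq.trans ?_ (map_mul (Ideal.Quotient.mk _) _ _)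
    refine congrArg _ ((he z).1 ?_)
    show _ • e z = (_ * _) • e z
    rw [mul_smul, coef_spec, coef_spec, e0_smul, Groth.L20.ModStalk.germ_smul]
    rfl

theorem evalArt_apply (x : Coh.HH X N 0) (z : {z : X // z ∈ IP.support}) :
    evalArt k IP e he x z = Ideal.Quotient.mk _ (coef IP e he x z) := rfl

/-- The section given by an element of degree zero cohomology. -/
theorem st_one_eq (σ : Coh.structureModule X ⟶ N) (z : X) :
    st σ z (one X z) = N.presheaf.germ ⊤ z trivial (σ.app ⊤ (oneSec X)) :=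
  (show one X z = (Coh.structureModule X).presheaf.germ ⊤ z trivial (oneSec X) from rfl) ▸ st_germ σ _ _

theorem zeroScheme_le_iff_coef (hN : PicF.IsInvertible N) {J : X.IdealSheafData} (hJ : IP ≤ J)
    {x : Coh.HH X N 0} {σ : Coh.structureModule X ⟶ N} (hσ : σ.app ⊤ (oneSec X) = e0 N x) :
    PicF2.zeroScheme N σ ≤ J ↔ ∀ z : {z : X // z ∈ IP.support}, coef IP e he x z ∈ stI J z.1 := by
  have hz : ∀ z : {z : X // z ∈ IP.support}, stI (PicF2.zeroScheme N σ) z.1 = Ideal.span {coef IP e he x z} :=
    fun z => stI_zeroScheme hN σ (he z) (by rw [coef_spec, st_one_eq, hσ])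
  constructor
  · intro h z
    exact stI_mono h z.1 (by rw [hz z]; exact Ideal.mem_span_singleton_self _)
  · intro h
    refine le_of_stI fun y => ?_
    by_cases hy : y ∈ IP.support
    · rw [hz ⟨y, hy⟩, Ideal.span_singleton_le_iff_mem]
      exact h ⟨y, hy⟩
    · exact le_top.trans ((stI_eq_top_of_notMem IP hy).ge.trans (stI_mono hJ y))

/-- The rank of the evaluation. -/
theorem finrank_range_evalArt [IsProper (X ↘ Spec (CommRingCat.of k))] (hN : PicF.IsInvertible N) :
    (Module.finrank k (LinearMap.range (evalArt k IP e he)) : ℤ) =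
      (Module.finrank k (Coh.HH X N 0) : ℤ) -
        (Module.finrank k (Coh.HH X (CohB1.tensorMod N (ClSub.idealMod IP)) 0) : ℤ) := by
  haveI := Groth.L21.RR.isNoetherian_of_proper (X := X) k
  haveI := Groth.L21.RR.finite_HH' k (Groth.L18.Ample.isCoh_of_isInvertible hN) 0
  haveI : Mono (twι N IP) := (Groth.L21.RR.shortExact_tw IP hN).mono_f
  have hinj := Groth.L21.RR.injective_hmap_zero (twι N IP)
  have hker : LinearMap.ker (evalArt k IP e he) = LinearMap.range (hk k (twι N IP) 0) := by
    ext x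
    obtain ⟨σ, hσ⟩ := exists_hom_of_hh0 x
    rw [LinearMap.mem_ker]
    have h0 : evalArt k IP e he x = 0 ↔ ∀ z : {z : X // z ∈ IP.support}, coef IP e he x z ∈ stI IP z.1 :=
      funext_iff.trans (forall_congr' fun z => Ideal.Quotient.eq_zero_iff_mem)
    rw [h0, ← zeroScheme_le_iff_coef IP e he hN le_rfl hσ, zeroScheme_le_iff hN σ IP]
    constructor
    · rintro ⟨τ, rfl⟩
      refine ⟨(e0 _).symm (τ.app ⊤ (oneSec X)), (e0 N).injective ?_⟩
      show e0 N (hmap _ 0 _) = _
      rw [e0_hmap, AddEquiv.apply_symm_apply, ← hσ]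
      rfl
    · rintro ⟨y, rfl⟩
      obtain ⟨τ, hτ⟩ := exists_hom_of_hh0 y
      refine ⟨τ, Groth.L21.RR.hom_ext_one ?_⟩
      show (twι N IP).app ⊤ (τ.app ⊤ (oneSec X)) = _
      rw [hτ, ← e0_hmap]
      exact hσ.symm
  have h1 := LinearMap.finrank_range_add_finrank_ker (evalArt k IP e he)
  rw [hker, LinearMap.finrank_range_of_inj (f := hk k (twι N IP) 0) hinj] at h1
  omega

end Eval

variable [IsProper (X ↘ Spec (CommRingCat.of k))] [IsIntegral X] (s : Surf X)
  (hfin : (IP.support : Set ↥X).Finite)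

include s hfin in
/-- The functions on the subscheme form a space of dimension at most its length. -/
theorem finite_art :
    Module.Finite k (Art IP) ∧ Module.finrank k (Art IP) ≤ Module.finrank k (Coh.HH X (ClSub.quotMod IP) 0) := by
  classical
  haveI := Groth.L21.RR.isNoetherian_of_proper (X := X) k
  haveI := Groth.L21.RR.finite_HH' k (Groth.L21.RR.isCoh_quotMod IP) 0
  let θ (z : X) : (X.presheaf.stalk z ⧸ stI IP z) ≃ₗ[X.presheaf.stalk z] (ClSub.quotMod IP).presheaf.stalk z :=
    (Submodule.quotEquivOfEq _ _ (ker_quotMap IP z).symm).trans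
      ((quotMap IP z).quotKerEquivOfSurjective (quotMap_surjective IP z))
  let Θ : Coh.HH X (ClSub.quotMod IP) 0 →ₗ[k] Art IP :=
    { toFun := fun x z => (θ z.1).symm ((ClSub.quotMod IP).presheaf.germ ⊤ z.1 trivial (e0 _ x))
      map_add' := fun x y => funext fun z => by
        rw [map_add (e0 _), map_add, map_add]
        rfl
      map_smul' := fun c x => funext fun z => by
        rw [RingHom.id_apply, art_smul, e0_smul, Groth.L20.ModStalk.germ_smul]
        refine ((θ z.1).symm.map_smul _ _).trans ?_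
        rw [Algebra.smul_def]
        rfl }
  have hΘ : Function.Surjective Θ := fun v => by
    obtain ⟨t, ht⟩ := Groth.L21.RR.exists_section_of_finite (suppClosed_quotMod s hfin)
      (fun x => if hx : x ∈ IP.support then θ x (v ⟨x, hx⟩) else 0) hfin.toFinset fun x hx => by
        exact dif_neg fun h => hx (hfin.mem_toFinset.2 h)
    refine ⟨(e0 _).symm t, funext fun z => ?_⟩
    show (θ z.1).symm ((ClSub.quotMod IP).presheaf.germ ⊤ z.1 trivial (e0 _ ((e0 _).symm t))) = v z
    rw [AddEquiv.apply_symm_apply, ht, dif_pos z.2, LinearEquiv.symm_apply_apply]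
  exact ⟨Module.Finite.of_surjective Θ hΘ, Θ.finrank_le_finrank_of_surjective hΘ⟩

variable [Infinite k]
  (hlci : ∀ x : X, ∃ V : X.affineOpens, x ∈ (V : X.Opens) ∧ ∃ a b : Γ(X, V), IP.ideal V = Ideal.span {a, b})

include s hfin hlci in
/-- The Cayley–Bacharach property for a product bounds the sum of the ranks of the factors. -/
theorem rank_add_le {L M : X.Modules} (hL : PicF.IsInvertible L) (hM : PicF.IsInvertible M)
    (hCB : ∀ I' : X.IdealSheafData, IP ⋖ I' →
      ∀ σ : Coh.structureModule X ⟶ CohB1.tensorMod L M,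
        PicF2.zeroScheme (CohB1.tensorMod L M) σ ≤ I' → PicF2.zeroScheme (CohB1.tensorMod L M) σ ≤ IP) :
    ((Module.finrank k (Coh.HH X L 0) : ℤ) -
        (Module.finrank k (Coh.HH X (CohB1.tensorMod L (ClSub.idealMod IP)) 0) : ℤ)) +
      ((Module.finrank k (Coh.HH X M 0) : ℤ) -
        (Module.finrank k (Coh.HH X (CohB1.tensorMod M (ClSub.idealMod IP)) 0) : ℤ)) ≤
      FGA.eulerCharLE k X (ClSub.quotMod IP) 2 := by
  classical
  haveI := Groth.L21.RR.isNoetherian_of_proper (X := X) k
  have hN : PicF.IsInvertible (CohB1.tensorMod L M) := Groth.L18.GenLoc.isInvertible_tensor hL hM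
  choose W ε δ hW hε hδ using fun z : {z : X // z ∈ IP.support} => Groth.L21.RR.exists_frames (L := M) hL hM z.1
  let e := fun z => L.presheaf.germ (W z) z.1 (hW z) (ε z)
  let f := fun z => M.presheaf.germ (W z) z.1 (hW z) (δ z)
  let g := fun z => (CohB1.tensorMod L M).presheaf.germ (W z) z.1 (hW z) (tens L M (W z) (ε z) (δ z))
  have he : ∀ z, Function.Bijective fun a : X.presheaf.stalk z.1 => a • e z := fun z =>
    Groth.L21.RR.bijective_germ_frame (hε z) (hW z)
  have hf : ∀ z, Function.Bijective fun a : X.presheaf.stalk z.1 => a • f z := fun z =>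
    Groth.L21.RR.bijective_germ_frame (hδ z) (hW z)
  have hg : ∀ z, Function.Bijective fun a : X.presheaf.stalk z.1 => a • g z := fun z =>
    Groth.L21.RR.bijective_germ_frame (isFrame_tens (hε z) (hδ z)) (hW z)
  obtain ⟨hfA, hA⟩ := finite_art k IP s hfin
  -- products of sections
  have hprod : ∀ a ∈ LinearMap.range (evalArt k IP e he), ∀ b ∈ LinearMap.range (evalArt k IP f hf),
      a * b ∈ LinearMap.range (evalArt k IP g hg) := by
    rintro _ ⟨x, rfl⟩ _ ⟨y, rfl⟩
    obtain ⟨σ, hσ⟩ := exists_hom_of_hh0 x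
    obtain ⟨τ, hτ⟩ := exists_hom_of_hh0 y
    refine ⟨(e0 _).symm ((σ ≫ mulS L τ).app ⊤ (oneSec X)), funext fun z => ?_⟩
    rw [Pi.mul_apply, evalArt_apply, evalArt_apply, evalArt_apply, ← map_mul]
    refine congrArg _ ((hg z).1 ?_)
    show _ • g z = _ • g z
    rw [coef_spec, AddEquiv.apply_symm_apply]
    obtain ⟨b, hb, hb'⟩ := Groth.L21.RR.exists_coeff_secOf (hδ z) τ
    have hby : X.presheaf.germ (W z) z.1 (hW z) b = coef IP f hf y z := (hf z).1 (by
      show _ • f z = _ • f z
      rw [coef_spec, hb' z.1 (hW z), st_one_eq, hτ])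
    rw [← hby, ← st_one_eq, Groth.L21.RR.st_comp, st_one_eq, hσ, ← coef_spec IP e he x z]
    exact Groth.L21.RR.st_mulS L τ hb (hW z) _
  -- socle vectors
  have hsoc : ∀ z : {z : X // z ∈ IP.support}, ∃ t : X.presheaf.stalk z.1, t ∉ stI IP z.1 ∧
      (∀ d ∈ maximalIdeal (X.presheaf.stalk z.1), d * t ∈ stI IP z.1) ∧
      ∀ r ∉ stI IP z.1, ∃ c, c * r - t ∈ stI IP z.1 := by
    intro z
    have hz := s.fin _ hfin IP.support.isClosed z.1 z.2
    haveI := s.reg z.1
    obtain ⟨hdom, u, v, huv⟩ := exists_regPair (X.presheaf.stalk z.1) (s.dimc z.1 hz)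
    obtain ⟨N, hN'⟩ := exists_pow_le IP s hfin z.2
    obtain ⟨a, b, hab⟩ := exists_gens IP hlci z.1
    have hne := stI_ne_top IP z.2
    rw [hab] at hN' hne
    obtain ⟨w, hw, hu, hv⟩ := huv.exists_socle (x := 1) (N := N)
      (fun h => hne ((Ideal.eq_top_iff_one _).2 h)) fun r hr => by rw [mul_one]; exact hN' hr
    refine ⟨w * 1, by rw [hab]; exact hw, fun d hd => by rw [hab]; exact huv.mul_mem hu hv hd, fun r hr => ?_⟩
    rw [hab] at hr ⊢
    obtain ⟨w', hw', hu', hv'⟩ := huv.exists_socle (x := r) (N := N) hr fun q hq =>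
      Ideal.mul_mem_right r _ (hN' hq)
    obtain ⟨i, hi, j, hj, hij⟩ := Submodule.mem_sup.1 (huv.socle_le hN' hne hw' hu' hv' hu hv)
    obtain ⟨c, rfl⟩ := Ideal.mem_span_singleton'.1 hj
    exact ⟨c * w', by rw [← hij, show c * w' * r - (i + c * (w' * r)) = -i by ring]; exact neg_mem hi⟩
  choose t ht1 ht2 ht3 using hsoc
  let v (z : {z : X // z ∈ IP.support}) : Art IP := Pi.single z (Ideal.Quotient.mk _ (t z))
  let V := LinearMap.range (evalArt k IP g hg)
  have hv : ∀ z, v z ∉ V := by
    rintro z ⟨x, hx⟩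
    obtain ⟨σ, hσ⟩ := exists_hom_of_hh0 x
    have hz := s.fin _ hfin IP.support.isClosed z.1 z.2
    have hcov := covBy_cover IP hz s hfin hlci z.2
    have h1 : PicF2.zeroScheme _ σ ≤ cover IP hz := by
      refine (zeroScheme_le_iff_coef IP g hg hN hcov.le hσ).2 fun w => ?_
      have hw := congrFun hx w
      rw [evalArt_apply] at hw
      by_cases h : w = z
      · subst h
        simp only [v, Pi.single_eq_same] at hw
        rw [mem_stI_cover_iff]
        intro d hd
        have h2 := Ideal.mul_mem_left (stI IP w.1) d (Ideal.Quotient.mk_eq_mk_iff_sub_mem _ _ |>.1 hw)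
        rw [mul_sub] at h2
        simpa using add_mem h2 (ht2 w d hd)
      · simp only [v, Pi.single_eq_of_ne h] at hw
        rw [stI_cover_of_ne IP hz (fun h' => h (Subtype.ext h'))]
        exact Ideal.Quotient.eq_zero_iff_mem.1 hw
    have h2 := (zeroScheme_le_iff_coef IP g hg hN le_rfl hσ).1 (hCB _ hcov σ h1) z
    have hw := congrFun hx z
    rw [evalArt_apply, Ideal.Quotient.eq_zero_iff_mem.2 h2] at hw
    simp only [v, Pi.single_eq_same] at hw
    exact ht1 z (Ideal.Quotient.eq_zero_iff_mem.1 hw.symm)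
  haveI : Finite {z : X // z ∈ IP.support} := hfin.to_subtype
  obtain ⟨φ, hφ⟩ := Module.exists_dual_forall_apply_ne_zero (K := k)
    (fun z => (Submodule.Quotient.mk (v z) : Art IP ⧸ V)) fun z h => hv z ((Submodule.Quotient.mk_eq_zero V).1 h)
  have key := finrank_add_le_of_nondeg (LinearMap.range (evalArt k IP e he)) (LinearMap.range (evalArt k IP f hf))
    (φ ∘ₗ V.mkQ) (fun a ha b hb => by
      rw [LinearMap.comp_apply, Submodule.mkQ_apply, (Submodule.Quotient.mk_eq_zero V).2 (hprod a ha b hb), map_zero])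
    fun a ha => by
      obtain ⟨z, hz⟩ := Function.ne_iff.1 ha
      obtain ⟨r, hr⟩ := Ideal.Quotient.mk_surjective (a z)
      obtain ⟨c, hc⟩ := ht3 z r fun h => hz (by rw [← hr]; exact Ideal.Quotient.eq_zero_iff_mem.2 h)
      refine ⟨Pi.single z (Ideal.Quotient.mk _ c), ?_⟩
      have h : a * Pi.single z (Ideal.Quotient.mk _ c) = v z := by
        funext w
        by_cases hwz : w = z
        · subst hwz
          simp only [v, Pi.mul_apply, Pi.single_eq_same, ← hr, ← map_mul]
          rw [mul_comm]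
          exact Ideal.Quotient.mk_eq_mk_iff_sub_mem _ _ |>.2 hc
        · simp only [v, Pi.mul_apply, Pi.single_eq_of_ne hwz, mul_zero]
      rw [h]
      exact hφ z
  have hL' := finrank_range_evalArt k IP e he hL
  have hM' := finrank_range_evalArt k IP f hf hM
  have hlen : FGA.eulerCharLE k X (ClSub.quotMod IP) 2 = Module.finrank k (Coh.HH X (ClSub.quotMod IP) 0) :=
    Groth.L17.Strat.eulerCharLE_eq_finrank (fun i hi => by
      obtain ⟨j, rfl⟩ : ∃ j, i = j + 1 := ⟨i - 1, by omega⟩
      exact Groth.L21.RR.subsingleton_HH_of_suppClosed (suppClosed_quotMod s hfin) j) 2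
  omega

end Groth.L03.AdjLin
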