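import Groth.Agent.L03.AdjLin.Cover
import Groth.Agent.L21.RR.Twist
import Groth.Agent.L21.RR.Point
import Groth.Agent.L21.RR.Equality

/-!
The twisted quotient of a cover: one-dimensional sections.
-/

set_option autoImplicit false
set_option backward.isDefEq.respectTransparency false
set_option linter.style.haveILetI false
set_option linter.unusedSectionVars false
universe u

open CategoryTheory CategoryTheory.Limits AlgebraicGeometry TopologicalSpace Opposite
open IsLocalRing (maximalIdeal)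

noncomputable section

namespace Groth.L03.AdjLin

open Groth.L21.RR (st one e0 cstAt SuppClosed tensorStalkEquiv exists_frame_stalk)
open Groth.L21.CurveAdj (stI)
open Groth.L03.BlowPt.QuotSeq (st_comp)

variable {X : Scheme.{u}} [AlgebraicGeometry.IsNoetherian X] (IP : X.IdealSheafData) {z : X}
  (hz : IsClosed ({z} : Set ↥X)) (s : Surf X) (hfin : (IP.support : Set ↥X).Finite)
  (hlci : ∀ x : X, ∃ V : X.affineOpens, x ∈ (V : X.Opens) ∧ ∃ a b : Γ(X, V), IP.ideal V = Ideal.span {a, b})
  (hzP : z ∈ IP.support)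
  (φ : ClSub.idealMod IP ⟶ ClSub.idealMod (cover IP hz))
  (hφ : φ ≫ ClSub.idealModι (cover IP hz) = ClSub.idealModι IP)

include hφ

theorem fac_apply (x : X) (w : (ClSub.idealMod IP).presheaf.stalk x) :
    st (ClSub.idealModι (cover IP hz)) x (st φ x w) = st (ClSub.idealModι IP) x w :=
  (st_comp φ (ClSub.idealModι (cover IP hz)) x w).symm.trans (congrArg (fun q => st q x w) hφ)

/-- Off the point the inclusion is bijective. -/
theorem surjective_fac_of_ne {x : X} (hx : x ≠ z) : Function.Surjective (st φ x) := fun u => by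
  obtain ⟨r, hr⟩ := (Groth.L21.RR.bijective_smul_one x).2 (st (ClSub.idealModι (cover IP hz)) x u)
  have hmem : r ∈ stI (cover IP hz) x := LinearMap.mem_range.2 ⟨u, hr.symm⟩
  rw [stI_cover_of_ne IP hz hx] at hmem
  obtain ⟨w, hw⟩ := LinearMap.mem_range.1 hmem
  refine ⟨w, (Groth.L21.Mod.mono_iff_stalk_injective (ClSub.idealModι (cover IP hz))).1
    (inferInstanceAs (Mono (kernel.ι _))) x ?_⟩
  exact (fac_apply IP hz φ hφ x w).trans (hw.trans hr)

/-- The class in the quotient vanishes on the smaller ideal. -/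
theorem st_π_eq_zero_iff {r : X.presheaf.stalk z} {u : (ClSub.idealMod (cover IP hz)).presheaf.stalk z}
    (hr : r • one X z = st (ClSub.idealModι (cover IP hz)) z u) :
    st (cokernel.π φ) z u = 0 ↔ r ∈ stI IP z := by
  constructor
  · intro h
    obtain ⟨w, hw⟩ := (ShortComplex.ab_exact_iff _).1
      ((Groth.L21.Mod.exact_iff_stalk _).1 (ShortComplex.exact_cokernel φ) z) u h
    refine LinearMap.mem_range.2 ⟨w, ?_⟩
    show st (ClSub.idealModι IP) z w = r • one X z
    rw [← fac_apply IP hz φ hφ z w, hr]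
    exact congrArg _ hw
  · intro h
    obtain ⟨w, hw⟩ := LinearMap.mem_range.1 h
    have hu : st φ z w = u :=
      (Groth.L21.Mod.mono_iff_stalk_injective (ClSub.idealModι (cover IP hz))).1
        (inferInstanceAs (Mono (kernel.ι _))) z ((fac_apply IP hz φ hφ z w).trans (hw.trans hr))
    rw [← hu, ← st_comp, cokernel.condition, Groth.L03.BlowPt.QuotSeq.st_zero]

include hfin hlci hzP s in
/-- The quotient at the point is simple. -/
theorem simple_quotient :
    (∃ v : (cokernel φ).presheaf.stalk z, v ≠ 0) ∧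
      (∀ d ∈ maximalIdeal (X.presheaf.stalk z), ∀ v : (cokernel φ).presheaf.stalk z, d • v = 0) ∧
      ∀ v w : (cokernel φ).presheaf.stalk z, w ≠ 0 → ∃ c : X.presheaf.stalk z, v = c • w := by
  have hπ : Function.Surjective (st (cokernel.π φ) z) :=
    (Groth.L21.Mod.epi_iff_stalk_surjective (cokernel.π φ)).1 inferInstance z
  have coord : ∀ u : (ClSub.idealMod (cover IP hz)).presheaf.stalk z, ∃ r ∈ stI (cover IP hz) z,
      r • one X z = st (ClSub.idealModι (cover IP hz)) z u := fun u => by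
    obtain ⟨r, hr⟩ := (Groth.L21.RR.bijective_smul_one z).2 (st (ClSub.idealModι (cover IP hz)) z u)
    exact ⟨r, LinearMap.mem_range.2 ⟨u, hr.symm⟩, hr⟩
  refine ⟨?_, ?_, ?_⟩
  · obtain ⟨r, hr, hrn⟩ : ∃ r ∈ stI (cover IP hz) z, r ∉ stI IP z := by
      by_contra hc
      push Not at hc
      refine (lt_cover IP hz s hfin hzP).not_ge (le_of_stI fun x => ?_)
      by_cases hx : x = z
      · subst hx; exact hc
      · exact (stI_cover_of_ne IP hz hx).le
    obtain ⟨u, hu⟩ := LinearMap.mem_range.1 hr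
    exact ⟨st (cokernel.π φ) z u, fun h => hrn ((st_π_eq_zero_iff IP hz φ hφ hu.symm).1 h)⟩
  · intro d hd v
    obtain ⟨u, rfl⟩ := hπ v
    obtain ⟨r, hr, hru⟩ := coord u
    rw [← map_smul]
    refine (st_π_eq_zero_iff IP hz φ hφ (r := d * r) ?_).2 ((mem_stI_cover_iff IP hz r).1 hr d hd)
    rw [map_smul, ← hru, smul_smul]
  · intro v w hw
    obtain ⟨u, rfl⟩ := hπ v
    obtain ⟨u0, rfl⟩ := hπ w
    obtain ⟨r, hr, hru⟩ := coord u
    obtain ⟨r0, hr0, hru0⟩ := coord u0
    have hn : r0 ∉ stI IP z := fun h => hw ((st_π_eq_zero_iff IP hz φ hφ hru0).2 h)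
    haveI := s.reg z
    obtain ⟨hdom, x, y, hxy⟩ := exists_regPair (X.presheaf.stalk z) (s.dimc z hz)
    obtain ⟨N, hN⟩ := exists_pow_le IP s hfin hzP
    obtain ⟨a, b, hab⟩ := exists_gens IP hlci z
    have h1 := (mem_stI_cover_iff IP hz r).1 hr
    have h0 := (mem_stI_cover_iff IP hz r0).1 hr0
    have hne := stI_ne_top IP hzP
    rw [hab] at hN hne hn h1 h0
    obtain ⟨p, hp, q, hq, hpq⟩ := Submodule.mem_sup.1 (hxy.socle_le hN hne hn (h0 x hxy.mem_u) (h0 y hxy.mem_v)
      (h1 x hxy.mem_u) (h1 y hxy.mem_v))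
    obtain ⟨c, rfl⟩ := Ideal.mem_span_singleton'.1 hq
    refine ⟨c, sub_eq_zero.1 ?_⟩
    rw [← map_smul, ← map_sub]
    refine (st_π_eq_zero_iff IP hz φ hφ (r := p) ?_).2 (hab ▸ hp)
    rw [map_sub, map_smul, ← hru, ← hru0, smul_smul, ← sub_smul]
    exact congrArg (· • one X z) (eq_sub_iff_add_eq.2 hpq)

variable (k : Type u) [Field k] [IsAlgClosed k] [X.Over (Spec (CommRingCat.of k))]
  [IsProper (X ↘ Spec (CommRingCat.of k))]

include hfin hlci hzP s in
/-- The sections of the twisted quotient form a line. -/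
theorem sections_line {N : X.Modules} (hN : PicF.IsInvertible N) :
    (∃ g : Coh.HH X (CohB1.tensorMod N (cokernel φ)) 0, g ≠ 0) ∧
      ∀ a b : Coh.HH X (CohB1.tensorMod N (cokernel φ)) 0, b ≠ 0 → ∃ c : k, a = c • b := by
  classical
  obtain ⟨⟨v0, hv0⟩, hm, hgen⟩ := simple_quotient IP hz s hfin hlci hzP φ hφ
  let Q' := CohB1.tensorMod N (cokernel φ)
  have hoff : ∀ x : X, x ≠ z → Subsingleton (Q'.presheaf.stalk x) := fun x hx => by
    obtain ⟨e, he⟩ := exists_frame_stalk hN x
    haveI := subsingleton_stalk_cokernel φ (surjective_fac_of_ne IP hz φ hφ hx)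
    exact (tensorStalkEquiv (cokernel φ) he).toEquiv.subsingleton
  obtain ⟨e, he⟩ := exists_frame_stalk hN z
  let θ := tensorStalkEquiv (cokernel φ) he
  have hext : ∀ a b : Coh.HH X Q' 0,
      θ (Q'.presheaf.germ ⊤ z trivial (e0 Q' a)) = θ (Q'.presheaf.germ ⊤ z trivial (e0 Q' b)) → a = b :=
    fun a b h => (e0 Q').injective <| Groth.L21.RR.germ_ext fun x _ => by
      by_cases hx : x = z
      · subst hx; exact θ.injective h
      · exact (hoff x hx).elim _ _
  have hsupp : SuppClosed Q' := fun x hx => hoff x fun h => hx (h ▸ hz)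
  refine ⟨?_, fun a b hb => ?_⟩
  · obtain ⟨g, hg⟩ := Groth.L21.RR.exists_section_of_finite hsupp
      (fun x => if h : x = z then h ▸ θ.symm v0 else 0) {z} fun x hx => dif_neg (by simpa using hx)
    refine ⟨(e0 Q').symm g, fun h0 => hv0 ?_⟩
    have h1 := congrArg (fun q => θ (Q'.presheaf.germ ⊤ z trivial (e0 Q' q))) h0
    simp only [AddEquiv.apply_symm_apply, map_zero] at h1
    rw [hg z, dif_pos rfl, LinearEquiv.apply_symm_apply] at h1
    exact h1
  · let v := θ (Q'.presheaf.germ ⊤ z trivial (e0 Q' a))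
    let w := θ (Q'.presheaf.germ ⊤ z trivial (e0 Q' b))
    have hw : w ≠ 0 := fun h => hb (hext b 0 (by
      simp only [map_zero]
      exact h))
    obtain ⟨r, hr⟩ := hgen v w hw
    obtain ⟨c, hc⟩ := Groth.L21.RR.isRat_of_isClosed k hz r
    refine ⟨c, hext _ _ ?_⟩
    rw [Groth.L21.RR.e0_smul k, Groth.L20.ModStalk.germ_smul, map_smul]
    show v = cstAt k z c • w
    rw [hr, ← sub_eq_zero, ← sub_smul]
    exact hm _ hc w

end Groth.L03.AdjLin
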