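import Groth.Agent.L03.AdjLin.Image
import Groth.Agent.L03.SurfExt.Seq
import Groth.Agent.L03.SurfExt.Bidual
import Groth.Agent.L03.SurfAdj.Tools
import Groth.Agent.L21.RedCurve.Basic

/-!
Coherent modules with finite support on a regular surface.
-/

set_option autoImplicit false
set_option backward.isDefEq.respectTransparency false
set_option linter.style.haveILetI false
set_option linter.unusedSectionVars false
universe u

open CategoryTheory CategoryTheory.Limits CategoryTheory.Abelian AlgebraicGeometry TopologicalSpace Opposite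

noncomputable section

namespace Groth.L03.AdjLin

open Groth.L21.RR (st one SuppClosed)
open Groth.L22.ExtSh (E)

variable {X : Scheme.{u}}

/-- The standing facts about the surface. -/
structure Surf (X : Scheme.{u}) : Prop where
  reg : ∀ x : X, IsRegularLocalRing (X.presheaf.stalk x)
  dim : topologicalKrullDim X = 2
  dimc : ∀ x : X, IsClosed ({x} : Set ↥X) → ringKrullDim (X.presheaf.stalk x) = (2 : ℕ)
  fin : ∀ S : Set ↥X, S.Finite → IsClosed S → ∀ x ∈ S, IsClosed ({x} : Set ↥X)

theorem surf_of_smooth (k : Type u) [Field k] [X.Over (Spec (CommRingCat.of k))]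
    [IsProper (X ↘ Spec (CommRingCat.of k))] [Smooth (X ↘ Spec (CommRingCat.of k))] [IsIntegral X]
    (hdim : topologicalKrullDim X = 2) : Surf X := by
  haveI : JacobsonSpace X := LocallyOfFiniteType.jacobsonSpace (X ↘ Spec (CommRingCat.of k))
  refine ⟨Groth.L03.SurfAdj.reg_of_smooth k, hdim, fun x hx => ?_, fun S hfin hS x hx => ?_⟩
  · refine Groth.L03.InterLen.ringKrullDim_stalk_closed k (fun Z hZ => ?_) hx
    rw [irreducibleComponents_eq_singleton, Set.mem_singleton_iff] at hZ
    subst hZ
    rw [IsHomeomorph.topologicalKrullDim_eq _ (Homeomorph.Set.univ X).isHomeomorph]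
    exact hdim.trans Nat.cast_ofNat.symm
  · have hT : (closure ({x} : Set ↥X) ∩ closedPoints ↥X).Finite :=
      hfin.subset (Set.inter_subset_left.trans (closure_minimal (Set.singleton_subset_iff.2 hx) hS))
    have hTc : IsClosed (closure ({x} : Set ↥X) ∩ closedPoints ↥X) := by
      rw [← Set.biUnion_of_singleton (closure ({x} : Set ↥X) ∩ closedPoints ↥X)]
      exact hT.isClosed_biUnion fun y hy => hy.2
    have h := JacobsonSpace.closure_inter_closedPoints_eq_closure (X := ↥X)
      (S := closure ({x} : Set ↥X)) isClosed_closure.isLocallyClosed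
    rw [hTc.closure_eq, closure_closure] at h
    have hxm : x ∈ closure ({x} : Set ↥X) ∩ closedPoints ↥X :=
      h.symm.subset (subset_closure (Set.mem_singleton x))
    exact hxm.2

theorem st_idealModι_surjective (I : X.IdealSheafData) {x : X} (hx : x ∉ I.support) :
    Function.Surjective (st (ClSub.idealModι I) x) := by
  intro v
  obtain ⟨V, hV, hxV, -⟩ := exists_isAffineOpen_mem_and_subset (x := x) (U := ⊤) trivial
  obtain ⟨r, hr⟩ := (Groth.L21.RR.bijective_smul_one x).2 v
  refine (Groth.L21.RR.range_st_idealModι I hV hxV v).2 ⟨r, ?_, hr⟩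
  rw [Scheme.IdealSheafData.mem_support_iff_of_mem (U := ⟨V, hV⟩) hxV, Scheme.mem_zeroLocus_iff] at hx
  push Not at hx
  obtain ⟨a, ha, hxa⟩ := hx
  rw [Ideal.eq_top_of_isUnit_mem _ (Ideal.mem_map_of_mem _ ha) ((X.mem_basicOpen a x hxV).1 hxa)]
  exact Submodule.mem_top

theorem subsingleton_stalk_cokernel {M N : X.Modules} (f : M ⟶ N) {x : X}
    (hf : Function.Surjective (st f x)) : Subsingleton ((cokernel f).presheaf.stalk x) := by
  have h0 : (Groth.L00.Stk.F X x).map (cokernel.π f) = 0 := by
    haveI : Epi ((Groth.L00.Stk.F X x).map f) := (ModuleCat.epi_iff_surjective _).2 hf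
    refine zero_of_epi_comp ((Groth.L00.Stk.F X x).map f) ?_
    rw [← Functor.map_comp, cokernel.condition, Functor.map_zero]
  exact ModuleCat.subsingleton_of_isZero (IsZero.of_epi_eq_zero _ h0)

/-- An inclusion of ideal modules has finite quotient when the smaller ideal has finite cosupport. -/
theorem suppClosed_cokernel_fac (s : Surf X) {I J : X.IdealSheafData} (hI : (I.support : Set ↥X).Finite)
    (φ : ClSub.idealMod I ⟶ ClSub.idealMod J) (h : φ ≫ ClSub.idealModι J = ClSub.idealModι I) :
    SuppClosed (cokernel φ) := fun x hx => by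
  refine subsingleton_stalk_cokernel φ fun v => ?_
  have hn : x ∉ I.support := fun hm => hx (s.fin _ hI I.support.isClosed x hm)
  obtain ⟨u, hu⟩ := st_idealModι_surjective I hn (st (ClSub.idealModι J) x v)
  refine ⟨u, (Groth.L21.Mod.mono_iff_stalk_injective (ClSub.idealModι J)).1 (inferInstanceAs (Mono (kernel.ι _))) x ?_⟩
  refine Eq.trans ?_ hu
  exact (Groth.L03.BlowPt.QuotSeq.st_comp φ (ClSub.idealModι J) x u).symm.trans (congrArg (fun q => st q x u) h)

theorem suppClosed_quotMod (s : Surf X) {I : X.IdealSheafData} (hI : (I.support : Set ↥X).Finite) :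
    SuppClosed (ClSub.quotMod I) := fun x hx => by
  refine subsingleton_of_forall_eq 0 fun v => ?_
  haveI : Epi (ClSub.toSubscheme I) := Groth.L21.RR.epi_toSubscheme I
  obtain ⟨a, rfl⟩ := (Groth.L21.Mod.epi_iff_stalk_surjective (ClSub.toSubscheme I)).1 inferInstance x v
  obtain ⟨u, rfl⟩ := st_idealModι_surjective I (fun hm => hx (s.fin _ hI I.support.isClosed x hm)) a
  refine (Groth.L03.BlowPt.QuotSeq.st_comp (ClSub.idealModι I) (ClSub.toSubscheme I) x u).symm.trans ?_
  rw [show ClSub.idealModι I ≫ ClSub.toSubscheme I = 0 from kernel.condition _]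
  exact Groth.L03.BlowPt.QuotSeq.st_zero x u

theorem isCoh_structureModule : Coh.IsCoh (Coh.structureModule X) :=
  Groth.L18.Ample.isCoh_of_isInvertible (Groth.L18.Ample.isInvertible_structureModule X)

theorem isFinLocFree_structureModule : FlatMod.IsFinLocFree (Coh.structureModule X) :=
  Groth.L20.ResDescent.isFinLocFree_of_isInvertible (Groth.L18.Ample.isInvertible_structureModule X)

theorem isCoh_idealMod [IsLocallyNoetherian X] (I : X.IdealSheafData) : Coh.IsCoh (ClSub.idealMod I) :=
  Groth.L18.IdealModule.isCoh_idealMod I fun U =>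
    haveI : IsNoetherianRing Γ(X, U.1) := IsLocallyNoetherian.component_noetherian U
    IsNoetherian.noetherian _

/-- Ext into a locally free module from a stalk of a module with finite support vanishes below degree two. -/
theorem subsingleton_ext_stalk [IsLocallyNoetherian X] (s : Surf X) {Q L : X.Modules} (hQ : Coh.IsCoh Q)
    (hs : SuppClosed Q) (hL : FlatMod.IsFinLocFree L) (x : X) {q : ℕ} (hq : q < 2) :
    Subsingleton (Ext (ModuleCat.of (X.presheaf.stalk x) (Q.presheaf.stalk x))
      (ModuleCat.of (X.presheaf.stalk x) (L.presheaf.stalk x)) q) := by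
  haveI := Groth.L18.LFP.free_stalk L hL x
  haveI := Groth.L06.SupportStalk.finite_stalk L (Groth.L16.NegPow.isCoh_of_isFinLocFree hL) x
  refine Groth.L22.ExtSh.subsingleton_ext_free_right _ (L.presheaf.stalk x) ?_
  have h := Groth.L22.ExtSh.subsingleton_ext_stalk_of_depth hQ isCoh_structureModule (n := 2) (fun y hy => by
    haveI := s.reg y
    obtain ⟨rs, hlen, hrs, hgen⟩ := Groth.L04.exists_regular_generators
      (s.dimc y (by_contra fun hc => hy (hs y hc)))
    obtain ⟨e⟩ := Groth.L03.SurfExt.stalk_equiv_of_invertible (Groth.L18.Ample.isInvertible_structureModule X) y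
    rw [LocCoh.depth, ← Groth.L04.idealDepth_congr e, ← hlen]
    exact Groth.L04.length_le_idealDepth hrs.1 fun r hr => hgen ▸ Ideal.subset_span hr) x hq
  obtain ⟨e⟩ := Groth.L03.SurfExt.stalk_equiv_of_invertible (Groth.L18.Ample.isInvertible_structureModule X) x
  exact @Equiv.subsingleton _ _ ((extFunctorObj (ModuleCat.of (X.presheaf.stalk x) (Q.presheaf.stalk x)) q).mapIso
    e.toModuleIso).addCommGroupIsoToAddEquiv.toEquiv h

theorem isZero_E [IsLocallyNoetherian X] [HasInjectiveResolutions X.Modules] (s : Surf X) {Q L : X.Modules}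
    (hQ : Coh.IsCoh Q) (hs : SuppClosed Q) (hL : FlatMod.IsFinLocFree L) {q : ℕ} (hq : q < 2) :
    IsZero (E Q L q) := by
  haveI := Groth.L17.Duality.hasSheafHom Q
  haveI : HasInjectiveResolutions (ModSite.Mod X.sheaf) := ‹HasInjectiveResolutions X.Modules›
  obtain ⟨e⟩ := Groth.L22.ExtSh.nonempty_extSh_iso Q L q
  exact IsZero.of_iso ((Groth.L22.ExtSh.isZero_extSh_iff hQ L q).2 fun x =>
    subsingleton_ext_stalk s hQ hs hL x hq) e.symm

/-- No maps from a module with finite support to a locally free module. -/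
theorem hom_eq_zero [IsLocallyNoetherian X] (s : Surf X) {Q L : X.Modules} (hQ : Coh.IsCoh Q)
    (hs : SuppClosed Q) (hL : FlatMod.IsFinLocFree L) (f : Q ⟶ L) : f = 0 := by
  refine Groth.L21.Mod.hom_ext_stalk fun x => ?_
  have h : ((Groth.L00.Stk.F X x).map f : ModuleCat.of (X.presheaf.stalk x) (Q.presheaf.stalk x) ⟶
      ModuleCat.of (X.presheaf.stalk x) (L.presheaf.stalk x)) = 0 :=
    (Ext.mk₀_bijective _ _).1 (@Subsingleton.elim _ (subsingleton_ext_stalk s hQ hs hL x (q := 0) two_pos) _ _)
  ext v
  rw [Functor.map_zero]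
  exact congr($h v)

end Groth.L03.AdjLin
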